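import Cfsg.Agent.Helper9.GenBr.Cfg

/-!
Bridge for S3793 (Shult–Gross): the group-level configuration for a cyclic acting group
generated by an element `s` with `s ^ (p ^ n) = 1`, acting coprimely and without fixed points on
the solvable group `G`, and its transfer along homomorphisms, to invariant subgroups and to
subgroups of the ambient group.
-/

set_option autoImplicit false
set_option linter.style.haveILetI false
set_option linter.unusedSectionVars false

namespace Cfsg.Agent.Helper9.GrossBr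

open Cfsg.Agent.Lead.S3F Cfsg.Agent.Lead.Fpq Cfsg.Agent.Helper9.FpqBr

universe u v

variable {Γ : Type*} [Group Γ] {Γ' : Type*} [Group Γ']

/-- the configuration: `s` has order dividing `p ^ n`, normalizes the solvable `p'`-group `G` and
fixes only the identity of `G`. -/
structure CfgS (p n : ℕ) (G : Subgroup Γ) (s : Γ) : Prop where
  pow : s ^ (p ^ n) = 1
  norm : s ∈ Subgroup.normalizer (G : Set Γ)
  solv : Group.IsSolvable G
  cop : (Nat.card G).Coprime p
  fpf : ∀ g ∈ G, s * g * s⁻¹ = g → g = 1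

/-- conjugation by a power of `s` fixes what `s` fixes. -/
theorem conj_zpowers_eq {s g a : Γ} (hs : s * g * s⁻¹ = g) (ha : a ∈ Subgroup.zpowers s) :
    a * g * a⁻¹ = g := by
  have hcomm : Commute s g := by
    have : s * g = g * s := by
      calc s * g = (s * g * s⁻¹) * s := by group
        _ = g * s := by rw [hs]
    exact this
  obtain ⟨i, rfl⟩ := Subgroup.mem_zpowers_iff.1 ha
  have h2 : Commute (s ^ i) g := hcomm.zpow_left i
  calc s ^ i * g * (s ^ i)⁻¹ = g * s ^ i * (s ^ i)⁻¹ := by rw [h2.eq]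
    _ = g := by group

/-- powers of `s` normalize what `s` normalizes. -/
theorem zpowers_le_normalizer {s : Γ} {X : Subgroup Γ}
    (h : s ∈ Subgroup.normalizer (X : Set Γ)) :
    Subgroup.zpowers s ≤ Subgroup.normalizer (X : Set Γ) := by
  rw [Subgroup.zpowers_le]; exact h

theorem card_zpowers_dvd [Finite Γ] {p n : ℕ} {s : Γ} (hs : s ^ (p ^ n) = 1) :
    Nat.card (Subgroup.zpowers s) ∣ p ^ n := by
  rw [Nat.card_zpowers]
  exact orderOf_dvd_of_pow_eq_one hs

namespace CfgS

variable {p n : ℕ} {G : Subgroup Γ} {s : Γ}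

theorem coprimeA [Finite Γ] (c : CfgS p n G s) {X : Subgroup Γ} (hX : X ≤ G) :
    (Nat.card (Subgroup.zpowers s)).Coprime (Nat.card X) := by
  have h1 : (Nat.card X).Coprime p :=
    Nat.Coprime.coprime_dvd_left (Subgroup.card_dvd_of_le hX) c.cop
  have h2 : (Nat.card X).Coprime (p ^ n) := Nat.Coprime.pow_right n h1
  exact Nat.Coprime.coprime_dvd_left (card_zpowers_dvd c.pow) h2.symm

/-- fixed points in the image of a homomorphism are trivial. -/
theorem fpf_map [Finite Γ] (c : CfgS p n G s) (φ : Γ →* Γ') (g : Γ) (hg : g ∈ G)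
    (h1 : φ s * φ g * (φ s)⁻¹ = φ g) : φ g = 1 := by
  obtain ⟨𝔸, h𝔸⟩ : ∃ 𝔸 : Subgroup Γ, 𝔸 = Subgroup.zpowers s := ⟨_, rfl⟩
  have hAG : 𝔸 ≤ Subgroup.normalizer (G : Set Γ) := by
    rw [h𝔸]; exact zpowers_le_normalizer c.norm
  obtain ⟨N, hN⟩ : ∃ N : Subgroup Γ, N = G ⊓ φ.ker := ⟨_, rfl⟩
  have hNG : N ≤ G := by rw [hN]; exact inf_le_left
  have hnorm : ∀ a ∈ Subgroup.normalizer (G : Set Γ), a ∈ Subgroup.normalizer (N : Set Γ) := by
    intro a ha
    apply mem_normalizer_of_conj_mem
    intro x hx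
    rw [hN] at hx ⊢
    replace hx := Subgroup.mem_inf.1 hx
    refine Subgroup.mem_inf.2 ⟨conj_mem_of_mem_normalizer' ha hx.1, ?_⟩
    exact (MonoidHom.normal_ker φ).conj_mem x hx.2 a
  have hfix : ∀ a ∈ 𝔸, a * g * a⁻¹ * g⁻¹ ∈ N := by
    intro a ha
    rw [hN]
    refine Subgroup.mem_inf.2
      ⟨G.mul_mem (conj_mem_of_mem_normalizer' (hAG ha) hg) (G.inv_mem hg), ?_⟩
    rw [MonoidHom.mem_ker]
    simp only [map_mul, map_inv]
    have h2 : φ a ∈ Subgroup.zpowers (φ s) := by
      rw [h𝔸] at ha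
      obtain ⟨i, rfl⟩ := Subgroup.mem_zpowers_iff.1 ha
      rw [map_zpow]
      exact Subgroup.zpow_mem_zpowers _ i
    rw [conj_zpowers_eq h1 h2, mul_inv_cancel]
  haveI := c.solv
  obtain ⟨x, hx, hxN⟩ := Cfsg.Agent.Helper1.coprime_fixed_coset
    𝔸 G hAG (by rw [h𝔸]; exact c.coprimeA le_rfl) (Or.inr c.solv) N hNG
    (fun a ha => hnorm a (Subgroup.le_normalizer ha)) (fun a ha => hnorm a (hAG ha)) g hg hfix
  replace hx := Subgroup.mem_inf.1 hx
  have hx1 : x = 1 := by
    have hcc := hx.2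
    rw [Subgroup.mem_centralizer_iff] at hcc
    apply c.fpf x hx.1
    have := hcc s (by rw [h𝔸]; exact Subgroup.mem_zpowers s)
    rw [this]; group
  rw [hx1, mul_one, hN] at hxN
  have := (Subgroup.mem_inf.1 hxN).2
  rw [MonoidHom.mem_ker, map_inv, inv_eq_one] at this
  exact this

/-- the image of a configuration. -/
theorem map [Finite Γ] (c : CfgS p n G s) (φ : Γ →* Γ') : CfgS p n (G.map φ) (φ s) := by
  haveI := c.solv
  refine ⟨?_, ?_, ?_, ?_, ?_⟩
  · rw [← map_pow, c.pow, map_one]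
  · exact (Subgroup.le_normalizer_map φ) ⟨s, c.norm, rfl⟩
  · exact Group.isSolvable_of_surjective (f := φ.subgroupMap G) (φ.subgroupMap_surjective G)
  · exact Nat.Coprime.coprime_dvd_left (Subgroup.card_map_dvd G φ) c.cop
  · rintro x ⟨g, hg, rfl⟩ h1
    exact c.fpf_map φ g hg h1

/-- an invariant subgroup of a configuration. -/
theorem sub (c : CfgS p n G s) {G₀ : Subgroup Γ} (hle : G₀ ≤ G)
    (hn : s ∈ Subgroup.normalizer (G₀ : Set Γ)) : CfgS p n G₀ s := by
  haveI := c.solv
  refine ⟨c.pow, hn, ?_, ?_, ?_⟩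
  · exact Group.isSolvable_of_isSolvable_injective (f := Subgroup.inclusion hle)
      (Subgroup.inclusion_injective hle)
  · exact Nat.Coprime.coprime_dvd_left (Subgroup.card_dvd_of_le hle) c.cop
  · intro g hg
    exact c.fpf g (hle hg)

/-- a configuration seen inside a subgroup of the ambient group. -/
theorem comap_subtype (c : CfgS p n G s) (N : Subgroup Γ) (hGN : G ≤ N) (hsN : s ∈ N) :
    CfgS p n (G.subgroupOf N) (⟨s, hsN⟩ : N) := by
  haveI := c.solv
  refine ⟨?_, ?_, ?_, ?_, ?_⟩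
  · apply Subtype.ext
    rw [Subgroup.coe_pow, Subgroup.coe_one]
    exact c.pow
  · rw [Subgroup.mem_normalizer_iff]
    intro x
    rw [Subgroup.mem_subgroupOf, Subgroup.mem_subgroupOf]
    exact Subgroup.mem_normalizer_iff.1 c.norm x
  · exact Group.isSolvable_of_isSolvable_injective
      (f := (Subgroup.subgroupOfEquivOfLe hGN).toMonoidHom)
      (Subgroup.subgroupOfEquivOfLe hGN).injective
  · rw [Nat.card_congr (Subgroup.subgroupOfEquivOfLe hGN).toEquiv]
    exact c.cop
  · intro g hg h1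
    rw [Subgroup.mem_subgroupOf] at hg
    have := c.fpf g hg (by simpa using congrArg Subtype.val h1)
    exact Subtype.ext this

end CfgS

end Cfsg.Agent.Helper9.GrossBr
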