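import Cfsg.Agent.Helper9.FpqBr.Rep
import Cfsg.Agent.Helper9.FpqBr.Nilp
import Cfsg.Agent.Helper9.GrossBr.Cfg

/-!
Bridge for S3793 (Shult–Gross): the linear theorem as a hypothesis, and the inductive step for a
minimal normal invariant subgroup that is normal in the ambient group.
-/

set_option autoImplicit false
set_option linter.style.haveILetI false
set_option linter.unusedSectionVars false

namespace Cfsg.Agent.Helper9.GrossBr

open Cfsg.Agent.Lead.S3F Cfsg.Agent.Lead.Fpq Cfsg.Agent.Helper9.FpqBr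

universe u

open scoped commutatorElement

/-- **The linear theorem**, as a hypothesis: an element `s` with `s ^ (p ^ n) = 1` acting
without fixed vectors on a module over an algebraically closed field of characteristic `r ≠ p`,
normalizing a solvable `p'`-group `H` acting faithfully with `O_r(H) = 1`, on which `s` fixes only
the identity: then `s ^ (p ^ (n - 1))` centralizes `H`. -/
def LinHypC (p n : ℕ) : Prop :=
  ∀ (k : Type) [Field k] [IsAlgClosed k] (r : ℕ) [Fact r.Prime] [CharP k r]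
    (Γ : Type u) [Group Γ] [Finite Γ] (W : Type u) [AddCommGroup W] [Module k W]
    [Module.Finite k W] (ρ : Representation k Γ W) (s : Γ), s ^ (p ^ n) = 1 →
    (∀ w : W, ρ s w = w → w = 0) →
    ∀ H : Subgroup Γ, s ∈ Subgroup.normalizer (H : Set Γ) →
    Group.IsSolvable H → (Nat.card H).Coprime p → r ≠ p →
    (∀ x ∈ H, s * x * s⁻¹ = x → x = 1) →
    (∀ x ∈ H, ρ x = 1 → x = 1) →
    (∀ P : Subgroup Γ, P ≤ H → (∀ g ∈ H, ∀ x ∈ P, g * x * g⁻¹ ∈ P) →
      s ∈ Subgroup.normalizer (P : Set Γ) → IsPGroup r P → P = ⊥) →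
    ∀ x ∈ H, s ^ (p ^ (n - 1)) * x = x * s ^ (p ^ (n - 1))

variable {Γ : Type*} [Group Γ]

/-- the conclusion at the group level: `[G, t]` is nilpotent. -/
def NilComm (G : Subgroup Γ) (t : Γ) : Prop :=
  ∃ c : ℕ, (⁅G, Subgroup.zpowers t⁆).lowerCentralSeries c = ⊥

theorem map_comm_zpowers {Γ' : Type*} [Group Γ'] (φ : Γ →* Γ') (G : Subgroup Γ) (t : Γ) :
    (⁅G, Subgroup.zpowers t⁆).map φ = ⁅G.map φ, Subgroup.zpowers (φ t)⁆ := by
  rw [Subgroup.map_commutator, MonoidHom.map_zpowers]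

/-- the inductive step. -/
theorem step {p n : ℕ} (hLin : LinHypC.{u} p n) {Γ : Type u} [Group Γ] [Finite Γ]
    (G V : Subgroup Γ) (s : Γ) [hVn : V.Normal]
    (hcfg : CfgS p n G s) (hVG : V ≤ G) (hVne : V ≠ ⊥)
    (hVmin : ∀ U : Subgroup Γ, U ≤ V → U ≠ ⊥ → (∀ g ∈ G, ∀ x ∈ U, g * x * g⁻¹ ∈ U) →
      (∀ x ∈ U, s * x * s⁻¹ ∈ U) → V ≤ U)
    (IH : ∀ (Γ' : Type u) [Group Γ'] [Finite Γ'] (G' : Subgroup Γ') (s' : Γ'),
      Nat.card G' < Nat.card G → CfgS p n G' s' → NilComm G' (s' ^ (p ^ (n - 1)))) :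
    NilComm G (s ^ (p ^ (n - 1))) := by
  classical
  haveI := hcfg.solv
  have hVs : Group.IsSolvable V :=
    Group.isSolvable_of_isSolvable_injective (f := Subgroup.inclusion hVG)
      (Subgroup.inclusion_injective hVG)
  obtain ⟨r, hr, hrV, hVc, hVp⟩ := elementary_of_minimal V hVs hVne
    (fun U hUn hUV hUne => hVmin U hUV hUne (fun g _ x hx => hUn.conj_mem x hx g)
      (fun x hx => hUn.conj_mem x hx s))
  haveI : Fact r.Prime := ⟨hr⟩
  have hrp : r ≠ p := by
    intro h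
    have h1 : r ∣ Nat.card G := hrV.trans (Subgroup.card_dvd_of_le hVG)
    have h2 := Nat.Coprime.eq_one_of_dvd (h ▸ hcfg.cop : (Nat.card G).Coprime r).symm h1
    exact hr.one_lt.ne' h2
  obtain ⟨W, iW1, iW2, iW3, ρ, hfaith, hfixρ⟩ := Cfsg.Agent.Helper9.FpqBr.exists_rep r V
    (fun a b => Subtype.ext (hVc a a.2 b b.2))
    (fun v => Subtype.ext (by
      rw [Subgroup.coe_pow, Subgroup.coe_one]; exact hVp v v.2))
  obtain ⟨φ, hφ⟩ : ∃ φ : Γ →* MulAut V, φ = MulAut.conjNormal := ⟨_, rfl⟩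
  have hφa : ∀ (g : Γ) (v : V), ((φ g) v : Γ) = g * v * g⁻¹ := by
    intro g v; rw [hφ, MulAut.conjNormal_apply]
  have hφ1 : ∀ g, φ g = 1 → ∀ v ∈ V, g * v * g⁻¹ = v := by
    intro g hg v hv
    have := hφa g ⟨v, hv⟩
    rw [hg, MulAut.one_apply] at this
    exact this.symm
  have hcfgH := hcfg.map φ
  obtain ⟨H, hH⟩ : ∃ H : Subgroup (MulAut V), H = G.map φ := ⟨_, rfl⟩
  rw [← hH] at hcfgH
  -- fixed points
  have hfix : ∀ w : W, ρ (φ s) w = w → w = 0 := by
    intro w hw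
    refine hfixρ ({φ s} : Set (MulAut V)) ?_ w ?_
    · intro v hv
      have := hcfg.fpf v (hVG v.2) (by
        have h3 := hv (φ s) (Set.mem_singleton _)
        rw [← hφa, h3])
      exact Subtype.ext this
    · intro x hx
      rw [Set.mem_singleton_iff] at hx
      rw [hx]; exact hw
  -- invariant subgroups of automorphisms with nontrivial fixed points are trivial
  have hminE : ∀ E : Subgroup (MulAut V), (∀ g ∈ H, ∀ x ∈ E, g * x * g⁻¹ ∈ E) →
      φ s ∈ Subgroup.normalizer (E : Set (MulAut V)) →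
      fixV V (E : Set (MulAut V)) ≠ ⊥ → E = ⊥ := by
    intro E hEn hAE hne
    have hV := hVmin (fixV V (E : Set (MulAut V))) (fixV_le V _) hne ?_ ?_
    · rw [eq_bot_iff]
      intro e he
      rw [Subgroup.mem_bot]
      exact eq_one_of_le_fixV V _ hV e he
    · intro g hg
      apply conj_mem_fixV
      intro e he
      have h1 : (φ g)⁻¹ ∈ H := by
        rw [hH]; exact Subgroup.inv_mem _ ⟨g, hg, rfl⟩
      have := hEn _ h1 e he
      rw [inv_inv] at this
      rw [← hφ]; exact this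
    · apply conj_mem_fixV
      intro e he
      have := conj_mem_of_mem_normalizer' (Subgroup.inv_mem _ hAE) he
      rw [inv_inv] at this
      rw [← hφ]; exact this
  have hOp : ∀ P : Subgroup (MulAut V), P ≤ H → (∀ g ∈ H, ∀ x ∈ P, g * x * g⁻¹ ∈ P) →
      φ s ∈ Subgroup.normalizer (P : Set (MulAut V)) → IsPGroup r P → P = ⊥ := by
    intro P _ hPn hAP hPp
    apply hminE P hPn hAP
    have h1 : (1 : V) ∈ MulAction.fixedPoints P V := fun e => map_one (e : MulAut V)
    obtain ⟨b, hb, hb1⟩ := hPp.exists_fixed_point_of_prime_dvd_card_of_fixed_point V hrV h1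
    intro hbot
    have h2 : (b : Γ) ∈ fixV V (P : Set (MulAut V)) := ⟨b.2, fun e he => hb ⟨e, he⟩⟩
    rw [hbot, Subgroup.mem_bot] at h2
    exact hb1 (Subtype.ext h2.symm)
  have hcent := hLin (AlgebraicClosure (ZMod r)) r (MulAut V) W ρ (φ s) hcfgH.pow hfix H
    hcfgH.norm hcfgH.solv hcfgH.cop hrp hcfgH.fpf (fun x _ => hfaith x) hOp
  obtain ⟨t, ht⟩ : ∃ t : Γ, t = s ^ (p ^ (n - 1)) := ⟨_, rfl⟩
  rw [← ht]
  have hφt : φ t = φ s ^ (p ^ (n - 1)) := by rw [ht, map_pow]
  obtain ⟨K, hK⟩ : ∃ K : Subgroup Γ, K = ⁅G, Subgroup.zpowers t⁆ := ⟨_, rfl⟩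
  -- `K` centralizes `V`
  have hKV : ∀ x ∈ K, ∀ v ∈ V, x * v * x⁻¹ = v := by
    have h1 : K.map φ = ⊥ := by
      rw [hK, map_comm_zpowers, ← hH, Subgroup.commutator_eq_bot_iff_le_centralizer]
      intro x hx
      rw [Subgroup.mem_centralizer_iff]
      intro y hy
      obtain ⟨i, rfl⟩ := Subgroup.mem_zpowers_iff.1 hy
      have h2 : Commute (φ t) x := by
        rw [hφt]; exact hcent x hx
      exact (h2.zpow_left i).eq
    intro x hx
    have h2 : φ x ∈ K.map φ := ⟨x, hx, rfl⟩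
    rw [h1, Subgroup.mem_bot] at h2
    exact hφ1 x h2
  -- the quotient
  obtain ⟨π, hπ⟩ : ∃ π : Γ →* Γ ⧸ V, π = QuotientGroup.mk' V := ⟨_, rfl⟩
  have hcfgQ := hcfg.map π
  have hlt : Nat.card (G.map π) < Nat.card G := by
    by_contra hge
    push Not at hge
    have hbij := Function.Surjective.bijective_of_nat_card_le
      (π.subgroupMap_surjective G) hge
    obtain ⟨v, hv1⟩ := (Subgroup.ne_bot_iff_exists_ne_one).1 hVne
    have h1 : π.subgroupMap G ⟨v, hVG v.2⟩ = π.subgroupMap G 1 := by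
      apply Subtype.ext
      rw [map_one]
      change π (v : Γ) = 1
      rw [hπ, QuotientGroup.mk'_apply, QuotientGroup.eq_one_iff]
      exact v.2
    have h2 := hbij.1 h1
    apply hv1
    have h3 := congrArg Subtype.val h2
    exact Subtype.ext h3
  obtain ⟨d, hd⟩ := IH (Γ ⧸ V) (G.map π) (π s) hlt hcfgQ
  have h2 : K.lowerCentralSeries d ≤ V := by
    have h3 : (K.lowerCentralSeries d).map π = ⊥ := by
      rw [Subgroup.map_lowerCentralSeries, hK, map_comm_zpowers, ht, map_pow]; exact hd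
    have := (Subgroup.map_eq_bot_iff _).1 h3
    rwa [hπ, QuotientGroup.ker_mk'] at this
  refine ⟨d + 1, ?_⟩
  rw [← hK, Subgroup.lowerCentralSeries_succ, Subgroup.commutator_eq_bot_iff_le_centralizer]
  intro x hx
  rw [Subgroup.mem_centralizer_iff]
  intro y hy
  have := hKV y hy x (h2 hx)
  calc y * x = (y * x * y⁻¹) * y := by group
    _ = x * y := by rw [this]

end Cfsg.Agent.Helper9.GrossBr
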