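import Mathlib
import Cfsg.Agent.Helper3.ShHHmin
import Cfsg.Agent.Helper3.ShCriticalC
import Cfsg.Agent.Helper3.HHLinA
import Cfsg.Agent.Helper3.ShLin

set_option autoImplicit false

namespace Cfsg.Agent.Helper9.GrossBr

open Module Cfsg.Agent.Helper3.FrobActC Cfsg.Agent.Helper3.HH Cfsg.Agent.Helper3.Shult

/-- the centralizer of an operator of finite order prime to the characteristic has dimension at
least `dim W` (the diagonal matrix units of an eigenbasis). -/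
theorem finrank_le_cent {K : Type*} [Field K] [IsAlgClosed K] {W : Type*} [AddCommGroup W]
    [Module K W] [FiniteDimensional K W] (T : Module.End K W) (r : ℕ)
    (hrK : (r : K) ≠ 0) (hT : T ^ r = 1) :
    finrank K W ≤ finrank K (cent T) := by
  classical
  have hss : T.IsSemisimple := by
    apply Module.End.isSemisimple_of_squarefree_aeval_eq_zero
      (p := (Polynomial.X ^ r - Polynomial.C 1 : Polynomial K))
    · exact (Polynomial.separable_X_pow_sub_C (1 : K) hrK one_ne_zero).squarefree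
    · simp [hT]
  have htop : ⨆ μ, Module.End.eigenspace T μ = ⊤ := hss.iSup_eigenspace_eq_top
  have hind := Module.End.eigenspaces_iSupIndep T
  have hint := DirectSum.isInternal_submodule_of_iSupIndep_of_iSup_eq_top hind htop
  obtain ⟨b, hb⟩ : ∃ b : Basis (Σ μ : K, Fin (finrank K (Module.End.eigenspace T μ))) K W,
      ∀ a, T (b a) = a.1 • b a := by
    refine ⟨hint.collectedBasis (fun μ => Module.finBasis K _), ?_⟩
    intro a
    have := hint.collectedBasis_mem (fun μ => Module.finBasis K (Module.End.eigenspace T μ)) a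
    exact Module.End.mem_eigenspace_iff.1 this
  haveI : Fintype (Σ μ : K, Fin (finrank K (Module.End.eigenspace T μ))) :=
    FiniteDimensional.fintypeBasisIndex b
  have hli : LinearIndependent K
      (fun i : (Σ μ : K, Fin (finrank K (Module.End.eigenspace T μ))) =>
        (⟨b.end (i, i), by
          rw [mem_cent]
          have := Module.Basis.lie_end_of_apply_eq_smul b (fun a => a.1) T hb i i
          rw [sub_self, zero_smul, Ring.lie_def, sub_eq_zero] at this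
          exact this⟩ : cent T)) := by
    apply LinearIndependent.of_comp (cent T).subtype
    exact b.end.linearIndependent.comp (fun i => (i, i)) (fun i j h => (Prod.ext_iff.1 h).1)
  have h3 := hli.fintype_card_le_finrank
  rw [Module.finrank_eq_card_basis b]
  exact h3

set_option maxHeartbeats 2000000 in
/-- The non-modular Hall–Higman/Shult dimension count, the irreducible case: `x` of order dividing
`p ^ (a + 1)` normalizes the `q`-group `Q₁`, which acts irreducibly on `W` with commutators acting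
as scalars; `y = x ^ (p ^ a)` fixes (by conjugation) only elements of `Q₁` acting as scalars; `x`
has no nonzero fixed vector.  Then `dim W ∈ {1, p ^ (a + 1) - 1}` and `(dim W) ^ 2` is the index of
the scalar subgroup. -/
theorem fpf_abs {K : Type*} [Field K] [IsAlgClosed K] (p : ℕ) (hp : p.Prime)
    {W : Type*} [AddCommGroup W] [Module K W] [FiniteDimensional K W] [Nontrivial W]
    {Γ : Type*} [Group Γ] (ρ : Representation K Γ W) (Q₁ : Subgroup Γ) [Finite Q₁]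
    (q : ℕ) (hq : q.Prime) (hqp : q ≠ p) (hQ₁ : IsPGroup q Q₁)
    (hpK : (p : K) ≠ 0) (hqK : (q : K) ≠ 0)
    (x y : Γ) (a : ℕ) (hx : x ^ (p ^ (a + 1)) = 1) (hy : y = x ^ (p ^ a))
    (hxQ : ∀ g ∈ Q₁, x * g * x⁻¹ ∈ Q₁)
    (hirr : ∀ U : Submodule K W, FInv ρ Q₁ U → U = ⊥ ∨ U = ⊤)
    (hcs : ∀ g ∈ Q₁, ∀ h ∈ Q₁, ∃ c : K, ρ (g * h * g⁻¹ * h⁻¹) = c • (1 : Module.End K W))
    (hcentral : ∀ c ∈ Q₁, y * c * y⁻¹ = c → ∃ l : K, ρ c = l • (1 : Module.End K W))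
    (hfix : ∀ w : W, ρ x w = w → w = 0)
    (Z₁ : Subgroup Γ)
    (hZ₁' : ∀ g, g ∈ Z₁ ↔ g ∈ Q₁ ∧ ∃ l : K, ρ g = l • (1 : Module.End K W)) :
    (finrank K W = 1 ∨ finrank K W + 1 = p ^ (a + 1)) ∧
      finrank K W * finrank K W = Z₁.relIndex Q₁ := by
  classical
  haveI : Fact q.Prime := ⟨hq⟩
  haveI hpF : Fact p.Prime := ⟨hp⟩
  obtain ⟨N, hN⟩ : ∃ N, N = p ^ (a + 1) := ⟨_, rfl⟩
  have hN0 : 0 < N := by rw [hN]; exact pow_pos hp.pos _
  have hNK : (N : K) ≠ 0 := by rw [hN, Nat.cast_pow]; exact pow_ne_zero _ hpK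
  have hyp : y ^ p = 1 := by rw [hy, ← pow_mul, ← pow_succ, hx]
  have hyQ : ∀ g ∈ Q₁, y * g * y⁻¹ ∈ Q₁ := by rw [hy]; exact conj_pow_mem Q₁ x hxQ _
  -- restricted rep
  obtain ⟨ρ', hρ'⟩ : ∃ ρ' : Representation K ↥Q₁ W, ∀ g : ↥Q₁, ρ' g = ρ (g : Γ) :=
    ⟨ρ.comp Q₁.subtype, fun g => rfl⟩
  have hirr' : ∀ U : Submodule K W, (∀ g : ↥Q₁, Submodule.map (ρ' g) U ≤ U) → U = ⊥ ∨ U = ⊤ := by
    intro U hU
    apply hirr U
    intro g hg
    have := hU ⟨g, hg⟩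
    rw [hρ'] at this
    exact this
  have hZ₁Q : Z₁ ≤ Q₁ := fun g hg => ((hZ₁' g).1 hg).1
  haveI : Finite ↥Z₁ := Finite.of_injective (Subgroup.inclusion hZ₁Q)
    (Subgroup.inclusion_injective hZ₁Q)
  have hZ₁conj : ∀ t : Γ, (∀ g ∈ Q₁, t * g * t⁻¹ ∈ Q₁) → ∀ g ∈ Z₁, t * g * t⁻¹ ∈ Z₁ := by
    intro t ht g hg
    rw [hZ₁'] at hg ⊢
    obtain ⟨hgQ, l, hl⟩ := hg
    refine ⟨ht g hgQ, l, ?_⟩
    rw [map_mul, map_mul, hl, mul_smul_comm, mul_one, smul_mul_assoc, rep_mul_inv]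
  have hZ₁x : ∀ k : ℕ, ∀ g ∈ Z₁, x ^ k * g * (x ^ k)⁻¹ ∈ Z₁ :=
    fun k => hZ₁conj _ (conj_pow_mem Q₁ x hxQ k)
  have hZ₁y : ∀ g ∈ Z₁, y * g * y⁻¹ ∈ Z₁ := by rw [hy]; exact hZ₁x _
  have hZ₁cop : ¬ p ∣ Nat.card Z₁ := by
    intro hdvd
    obtain ⟨j, hj⟩ := (hQ₁.to_le hZ₁Q).exists_card_eq
    rw [hj] at hdvd
    have := (Nat.prime_dvd_prime_iff_eq hp hq).1 (hp.dvd_of_dvd_pow hdvd)
    exact hqp this.symm
  -- key freeness
  have hfree0 : ∀ k : ℕ, 0 < k → k < N → ∀ g ∈ Q₁,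
      x ^ k * g * (x ^ k)⁻¹ * g⁻¹ ∈ Z₁ → g ∈ Z₁ := by
    intro k hk0 hkN g hg hcomm
    obtain ⟨z, hz⟩ : ∃ z, z = x ^ k := ⟨_, rfl⟩
    rw [← hz] at hcomm
    have hzZ : ∀ h ∈ Z₁, z * h * z⁻¹ ∈ Z₁ := by rw [hz]; exact hZ₁x k
    have hzpow : ∀ e : ℕ, z ^ e * g * (z ^ e)⁻¹ * g⁻¹ ∈ Z₁ := by
      intro e
      induction e with
      | zero =>
        have : z ^ 0 * g * (z ^ 0)⁻¹ * g⁻¹ = 1 := by group
        rw [this]; exact Z₁.one_mem
      | succ e ih =>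
        have e1 : z ^ (e + 1) * g * (z ^ (e + 1))⁻¹ * g⁻¹ =
            (z * (z ^ e * g * (z ^ e)⁻¹ * g⁻¹) * z⁻¹) * (z * g * z⁻¹ * g⁻¹) := by
          rw [pow_succ']; group
        rw [e1]
        exact Z₁.mul_mem (hzZ _ ih) hcomm
    obtain ⟨e, he⟩ : ∃ e : ℕ, z ^ e = y := by
      obtain ⟨j, d, hd, hkeq⟩ :=
        Nat.exists_eq_pow_mul_and_not_dvd (n := k) (by omega) p hp.ne_one
      have hd0 : 0 < d := by
        rcases Nat.eq_zero_or_pos d with h | h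
        · exfalso; apply hd; rw [h]; exact dvd_zero p
        · exact h
      have hja : j ≤ a := by
        have h1 : p ^ j ≤ k := by rw [hkeq]; exact Nat.le_mul_of_pos_right _ hd0
        have h2 : p ^ j < p ^ (a + 1) := by rw [← hN]; omega
        have := (Nat.pow_lt_pow_iff_right hp.one_lt).1 h2
        omega
      have hcop : Nat.Coprime d p := ((Nat.Prime.coprime_iff_not_dvd hp).2 hd).symm
      obtain ⟨d', -, hd'⟩ := Nat.exists_mul_mod_eq_one_of_coprime hcop hp.one_lt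
      refine ⟨p ^ (a - j) * d', ?_⟩
      rw [hz, ← pow_mul, hkeq]
      have e2 : p ^ j * d * (p ^ (a - j) * d') = p ^ a * (d * d') := by
        have : p ^ a = p ^ j * p ^ (a - j) := by
          rw [← pow_add]; congr 1; omega
        rw [this]; ring
      rw [e2, pow_mul, ← hy]
      have h3 := Nat.div_add_mod (d * d') p
      rw [hd'] at h3
      rw [← h3, pow_add, pow_mul, hyp, one_pow, one_mul, pow_one]
    have hyg : y * g * y⁻¹ * g⁻¹ ∈ Z₁ := by rw [← he]; exact hzpow e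
    obtain ⟨z₁, hz₁, hfix'⟩ := exists_fixed_in_coset y hyp Z₁ hZ₁y hZ₁cop g hyg
    have hz₁g : z₁ * g ∈ Q₁ := Q₁.mul_mem (hZ₁Q hz₁) hg
    have hsc : z₁ * g ∈ Z₁ := (hZ₁' _).2 ⟨hz₁g, hcentral _ hz₁g hfix'⟩
    have : g = z₁⁻¹ * (z₁ * g) := by group
    rw [this]
    exact Z₁.mul_mem (Z₁.inv_mem hz₁) hsc
  -- the critical lemma
  have hxQ' : ∀ g : ↥Q₁, x * (g : Γ) * x⁻¹ ∈ Q₁ := fun g => hxQ g g.2
  obtain ⟨φ, hφ⟩ : ∃ φ : ↥Q₁ → ↥Q₁, ∀ g : ↥Q₁, ((φ g : ↥Q₁) : Γ) = x * (g : Γ) * x⁻¹ :=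
    ⟨fun g => ⟨x * (g : Γ) * x⁻¹, hxQ' g⟩, fun g => rfl⟩
  have hφiter : ∀ k : ℕ, ∀ g : ↥Q₁, ((φ^[k] g : ↥Q₁) : Γ) = x ^ k * (g : Γ) * (x ^ k)⁻¹ := by
    intro k
    induction k with
    | zero => intro g; simp
    | succ k ih =>
      intro g
      rw [Function.iterate_succ_apply', hφ, ih, pow_succ']
      group
  obtain ⟨Z₀, hZ₀def⟩ : ∃ Z₀ : Subgroup ↥Q₁, Z₀ = Z₁.subgroupOf Q₁ := ⟨_, rfl⟩
  have hZ₀ : ∀ g : ↥Q₁, g ∈ Z₀ ↔ ∃ l : K, ρ' g = l • (1 : Module.End K W) := by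
    intro g
    rw [hZ₀def, Subgroup.mem_subgroupOf, hZ₁', hρ']
    exact ⟨fun h => h.2, fun h => ⟨g.2, h⟩⟩
  have hQK : ((Nat.card Q₁ : ℕ) : K) ≠ 0 := by
    obtain ⟨j, hj⟩ := hQ₁.exists_card_eq
    rw [hj, Nat.cast_pow]
    exact pow_ne_zero _ hqK
  have hsc := shult_critical_free ρ' hirr' hQK (ρ x) (ρ x⁻¹) (rep_mul_inv ρ x) (rep_inv_mul ρ x)
    N hN0 (by rw [← map_pow, hN, hx, map_one]) φ
    (by intro g; rw [hρ', hρ', hφ, map_mul, map_mul])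
    (by
      intro g h
      rw [hρ']
      have e : (((g * h * g⁻¹ * h⁻¹ : ↥Q₁)) : Γ) = (g : Γ) * h * (g : Γ)⁻¹ * (h : Γ)⁻¹ := by
        simp
      rw [e]
      exact hcs g g.2 h h.2)
    (by
      intro k hk0 hkN g hg
      rw [← hZ₀] at hg ⊢
      rw [hZ₀def, Subgroup.mem_subgroupOf] at hg ⊢
      apply hfree0 k hk0 hkN _ g.2
      have e : ((φ^[k] g * g⁻¹ : ↥Q₁) : Γ) = x ^ k * (g : Γ) * (x ^ k)⁻¹ * (g : Γ)⁻¹ := by
        rw [Subgroup.coe_mul, hφiter, Subgroup.coe_inv]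
      rw [← e]; exact hg)
    Z₀ hZ₀
  obtain ⟨hB1, hDD⟩ := hsc
  have hxN : (ρ x) ^ N = 1 := by rw [← map_pow, hN, hx, map_one]
  have hcl := cent_lower (ρ x) N hN0 hNK hxN hfix
  have hfD := finrank_le_cent (ρ x) N hNK hxN
  have hD1 : 1 ≤ finrank K W := Module.finrank_pos
  refine ⟨?_, ?_⟩
  · -- arithmetic
    obtain ⟨D, hD⟩ : ∃ D, D = finrank K W := ⟨_, rfl⟩
    obtain ⟨f, hf⟩ : ∃ f, f = finrank K ↥(cent (ρ x)) := ⟨_, rfl⟩
    rw [← hD] at hB1 hcl hfD hD1 ⊢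
    rw [← hf] at hB1 hcl hfD
    rw [← hN]
    obtain ⟨N', rfl⟩ : ∃ N', N = N' + 1 := ⟨N - 1, by omega⟩
    rw [Nat.add_sub_cancel] at hcl
    -- f ≤ N'
    have h1 : f ≤ N' := by nlinarith
    have h2 : D ≤ N' := hfD.trans h1
    -- (D - 1) (N' - D) ≤ 0
    have h3 : (N' + 1) * D + 1 ≤ (N' + 1) + D * D := by
      have := Nat.mul_le_mul_left (N' + 1) hfD
      omega
    by_contra hcon
    push Not at hcon
    obtain ⟨hc1, hc2⟩ := hcon
    have h4 : 2 ≤ D := by omega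
    have h5 : D + 1 ≤ N' := by omega
    obtain ⟨u, rfl⟩ : ∃ u, D = u + 2 := ⟨D - 2, by omega⟩
    obtain ⟨v, rfl⟩ : ∃ v, N' = u + 2 + 1 + v := ⟨N' - (u + 2 + 1), by omega⟩
    nlinarith
  · rw [hDD, hZ₀def]
    rfl

end Cfsg.Agent.Helper9.GrossBr
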