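import Mathlib
import Cfsg.Agent.Helper9.GrossBr.PPabs
import Cfsg.Agent.Helper3.ShHHabs

set_option autoImplicit false

namespace Cfsg.Agent.Helper9.GrossBr

open Module Cfsg.Agent.Helper3.FrobActC Cfsg.Agent.Helper3.HH Cfsg.Agent.Helper3.Shult

set_option maxHeartbeats 2000000 in
/-- `fpf_abs` relative to a minimal `Q₁`-invariant subspace `U` stabilized by `x`. -/
theorem fpf_rel {K : Type*} [Field K] [IsAlgClosed K] (p : ℕ) (hp : p.Prime)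
    {V : Type*} [AddCommGroup V] [Module K V] [FiniteDimensional K V]
    {Γ : Type*} [Group Γ] (ρ : Representation K Γ V) (Q₁ : Subgroup Γ) [Finite Q₁]
    (q : ℕ) (hq : q.Prime) (hqp : q ≠ p) (hQ₁ : IsPGroup q Q₁)
    (hpK : (p : K) ≠ 0) (hqK : (q : K) ≠ 0)
    (x y : Γ) (a : ℕ) (hx : x ^ (p ^ (a + 1)) = 1) (hy : y = x ^ (p ^ a))
    (hxQ : ∀ g ∈ Q₁, x * g * x⁻¹ ∈ Q₁)
    (U : Submodule K V) (hU : IsMinInv ρ Q₁ U) (hUx : U.map (ρ x) ≤ U)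
    (hcs : ∀ g ∈ Q₁, ∀ h ∈ Q₁, ∃ c : K, ∀ u ∈ U, ρ (g * h * g⁻¹ * h⁻¹) u = c • u)
    (hcentral : ∀ c ∈ Q₁, y * c * y⁻¹ = c → ∃ l : K, ∀ u ∈ U, ρ c u = l • u)
    (hfix : ∀ u ∈ U, ρ x u = u → u = 0)
    (Z₁ : Subgroup Γ) (hZ₁ : ∀ g, g ∈ Z₁ ↔ g ∈ Q₁ ∧ ∃ l : K, ∀ u ∈ U, ρ g u = l • u) :
    (finrank K U = 1 ∨ finrank K U + 1 = p ^ (a + 1)) ∧
      finrank K U * finrank K U = Z₁.relIndex Q₁ := by
  classical
  haveI : Nontrivial ↥U := Submodule.nontrivial_iff_ne_bot.2 hU.1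
  have hN0 : 0 < p ^ (a + 1) := pow_pos hp.pos _
  obtain ⟨Γ₁, hΓ₁⟩ : ∃ Γ₁ : Subgroup Γ, Γ₁ = stab ρ U := ⟨_, rfl⟩
  have hΓ₁mem : ∀ g : Γ, g ∈ Γ₁ ↔ U.map (ρ g) ≤ U ∧ U.map (ρ g⁻¹) ≤ U := by
    intro g
    rw [hΓ₁]
    exact mem_stab ρ U g
  have hQΓ : Q₁ ≤ Γ₁ := by
    intro g hg
    rw [hΓ₁mem]
    exact ⟨hU.2.1 g hg, hU.2.1 g⁻¹ (Q₁.inv_mem hg)⟩
  have hxΓ : x ∈ Γ₁ := by
    rw [hΓ₁mem]
    exact ⟨hUx, map_inv_le_of_pow ρ x _ hN0 hx U hUx⟩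
  have hΓinv : ∀ g : ↥Γ₁, ∀ w ∈ U, (ρ.comp Γ₁.subtype) g w ∈ U := by
    intro g w hw
    have := (hΓ₁mem (g : Γ)).1 g.2
    exact this.1 (Submodule.mem_map_of_mem hw)
  obtain ⟨ρ₁, hρ₁⟩ : ∃ ρ₁ : Representation K ↥Γ₁ ↥U,
      ∀ (g : ↥Γ₁) (w : ↥U), ((ρ₁ g w : ↥U) : V) = ρ (g : Γ) (w : V) :=
    ⟨subRep (ρ.comp Γ₁.subtype) U hΓinv, fun g w => rfl⟩
  obtain ⟨x₁, hx₁⟩ : ∃ x₁ : ↥Γ₁, (x₁ : Γ) = x := ⟨⟨x, hxΓ⟩, rfl⟩
  obtain ⟨y₁, hy₁⟩ : ∃ y₁ : ↥Γ₁, y₁ = x₁ ^ (p ^ a) := ⟨_, rfl⟩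
  have hy₁coe : (y₁ : Γ) = y := by
    rw [hy₁, Subgroup.coe_pow, hx₁, hy]
  obtain ⟨N₁, hN₁⟩ : ∃ N₁ : Subgroup ↥Γ₁, N₁ = Q₁.subgroupOf Γ₁ := ⟨_, rfl⟩
  have hN₁mem : ∀ g : ↥Γ₁, g ∈ N₁ ↔ (g : Γ) ∈ Q₁ := by
    intro g
    rw [hN₁, Subgroup.mem_subgroupOf]
  have hN₁equiv : N₁ ≃* Q₁ := by
    rw [hN₁]
    exact Subgroup.subgroupOfEquivOfLe hQΓ
  haveI : Finite ↥N₁ := Finite.of_equiv _ hN₁equiv.symm.toEquiv
  have hN₁p : IsPGroup q N₁ := hQ₁.of_equiv hN₁equiv.symm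
  have hcoe_conjx : ∀ g : ↥Γ₁, ((x₁ * g * x₁⁻¹ : ↥Γ₁) : Γ) = x * (g : Γ) * x⁻¹ := by
    intro g
    rw [Subgroup.coe_mul, Subgroup.coe_mul, Subgroup.coe_inv, hx₁]
  have hcoe_conjy : ∀ g : ↥Γ₁, ((y₁ * g * y₁⁻¹ : ↥Γ₁) : Γ) = y * (g : Γ) * y⁻¹ := by
    intro g
    rw [Subgroup.coe_mul, Subgroup.coe_mul, Subgroup.coe_inv, hy₁coe]
  -- scalar on `U` in both languages
  have hscal : ∀ (g : ↥Γ₁) (l : K), ρ₁ g = l • (1 : Module.End K ↥U) ↔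
      ∀ u ∈ U, ρ (g : Γ) u = l • u := by
    intro g l
    constructor
    · intro h u hu
      have h2 := LinearMap.congr_fun h ⟨u, hu⟩
      have h3 := congrArg Subtype.val h2
      rw [hρ₁, LinearMap.smul_apply, Module.End.one_apply] at h3
      exact h3
    · intro h
      ext u
      rw [hρ₁, LinearMap.smul_apply, Module.End.one_apply]
      exact h u u.2
  have habs := fpf_abs p hp ρ₁ N₁ q hq hqp hN₁p hpK hqK x₁ y₁ a
    (by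
      apply Subtype.ext
      rw [Subgroup.coe_pow, hx₁, hx, Subgroup.coe_one])
    hy₁
    (by
      intro n hn
      rw [hN₁mem] at hn ⊢
      rw [hcoe_conjx]
      exact hxQ _ hn)
    (by
      intro U' hU'
      have hU'Q : FInv ρ Q₁ (U'.map U.subtype) := by
        apply finv_of_mem
        rintro g hg _ ⟨u, hu, rfl⟩
        have hgΓ : g ∈ Γ₁ := hQΓ hg
        have h1 := hU'.mem (f := ⟨g, hgΓ⟩) ((hN₁mem _).2 hg) hu
        refine ⟨_, h1, ?_⟩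
        rw [Submodule.subtype_apply, hρ₁]
        rfl
      have hle : U'.map U.subtype ≤ U := by
        rintro _ ⟨u, _, rfl⟩
        exact u.2
      rcases hU.2.2 _ hU'Q hle with h | h
      · left
        rw [eq_bot_iff]
        intro u hu
        have h1 : (u : V) ∈ U'.map U.subtype := ⟨u, hu, rfl⟩
        rw [h, Submodule.mem_bot] at h1
        rw [Submodule.mem_bot]
        exact Subtype.ext h1
      · right
        rw [eq_top_iff]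
        intro w _
        have h1 : (w : V) ∈ U'.map U.subtype := by rw [h]; exact w.2
        obtain ⟨u, hu, hue⟩ := h1
        have : u = w := Subtype.ext hue
        rw [← this]; exact hu)
    (by
      intro g hg h hh
      rw [hN₁mem] at hg hh
      obtain ⟨c, hc⟩ := hcs _ hg _ hh
      refine ⟨c, ?_⟩
      rw [hscal]
      simp only [Subgroup.coe_mul, Subgroup.coe_inv]
      exact hc)
    (by
      intro c hc hcy
      rw [hN₁mem] at hc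
      obtain ⟨l, hl⟩ := hcentral _ hc (by rw [← hcoe_conjy, hcy])
      exact ⟨l, (hscal c l).2 hl⟩)
    (by
      intro w hw
      have h3 := congrArg Subtype.val hw
      rw [hρ₁, hx₁] at h3
      exact Subtype.ext (hfix (w : V) w.2 h3))
    (Z₁.subgroupOf Γ₁)
    (by
      intro g
      rw [Subgroup.mem_subgroupOf, hZ₁, hN₁mem]
      constructor
      · rintro ⟨h1, l, hl⟩
        exact ⟨h1, l, (hscal g l).2 hl⟩
      · rintro ⟨h1, l, hl⟩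
        exact ⟨h1, l, (hscal g l).1 hl⟩)
  have hdim : finrank K ↥U = finrank K U := rfl
  rw [hN₁, Subgroup.relIndex_subgroupOf hQΓ] at habs
  exact habs

end Cfsg.Agent.Helper9.GrossBr
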