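import Mathlib
import Cfsg.Agent.Helper9.GrossBr.PPrel
import Cfsg.Agent.Helper3.ShHHcore

set_option autoImplicit false

namespace Cfsg.Agent.Helper9.GrossBr

open Module Cfsg.Agent.Helper3.FrobActC Cfsg.Agent.Helper3.HH Cfsg.Agent.Helper3.Shult

/-- Schur's lemma relative to a minimal invariant subspace. -/
theorem schur_rel {K : Type*} [Field K] [IsAlgClosed K] {V : Type*} [AddCommGroup V] [Module K V]
    [FiniteDimensional K V] {Γ : Type*} [Group Γ] (ρ : Representation K Γ V) (Q₁ : Subgroup Γ)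
    (U : Submodule K V) (hU : IsMinInv ρ Q₁ U) (A : Module.End K V) (hAU : ∀ u ∈ U, A u ∈ U)
    (hA : ∀ g ∈ Q₁, ∀ u ∈ U, ρ g (A u) = A (ρ g u)) :
    ∃ l : K, ∀ u ∈ U, A u = l • u := by
  classical
  haveI : Nontrivial ↥U := Submodule.nontrivial_iff_ne_bot.2 hU.1
  obtain ⟨A', hA'⟩ : ∃ A' : Module.End K ↥U, ∀ u : ↥U, ((A' u : ↥U) : V) = A (u : V) :=
    ⟨A.restrict hAU, fun u => rfl⟩
  obtain ⟨l, hl⟩ := Module.End.exists_eigenvalue A'
  have hE0 : Module.End.eigenspace A' l ≠ ⊥ := Module.End.hasEigenvalue_iff.1 hl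
  refine ⟨l, ?_⟩
  obtain ⟨W, hW⟩ : ∃ W : Submodule K V, W = (Module.End.eigenspace A' l).map U.subtype :=
    ⟨_, rfl⟩
  have hWmem : ∀ v, v ∈ W ↔ v ∈ U ∧ A v = l • v := by
    intro v
    rw [hW, Submodule.mem_map]
    constructor
    · rintro ⟨u, hu, rfl⟩
      rw [Module.End.mem_eigenspace_iff] at hu
      refine ⟨u.2, ?_⟩
      have := congrArg Subtype.val hu
      rw [hA'] at this
      simpa using this
    · rintro ⟨hv, hAv⟩
      refine ⟨⟨v, hv⟩, ?_, rfl⟩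
      rw [Module.End.mem_eigenspace_iff]
      apply Subtype.ext
      rw [hA']
      simpa using hAv
  have hWU : W ≤ U := fun v hv => ((hWmem v).1 hv).1
  have hWQ : FInv ρ Q₁ W := by
    apply finv_of_mem
    intro g hg v hv
    rw [hWmem] at hv ⊢
    refine ⟨hU.2.1.mem hg hv.1, ?_⟩
    rw [← hA g hg v hv.1, hv.2, map_smul]
  have hW0 : W ≠ ⊥ := by
    intro h
    apply hE0
    rw [eq_bot_iff]
    intro u hu
    have : (u : V) ∈ W := by rw [hW]; exact ⟨u, hu, rfl⟩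
    rw [h, Submodule.mem_bot] at this
    rw [Submodule.mem_bot]
    exact Subtype.ext this
  rcases hU.2.2 W hWQ hWU with h | h
  · exact absurd h hW0
  · intro u hu
    rw [← h] at hu
    exact ((hWmem u).1 hu).2

set_option maxHeartbeats 2000000 in
/-- Lemma PP on the whole space: the prime-power Shult index computation. -/
theorem pp_top {K : Type*} [Field K] [IsAlgClosed K] {V : Type*} [AddCommGroup V] [Module K V]
    [FiniteDimensional K V] {Γ : Type*} [Group Γ] (ρ : Representation K Γ V) {p q : ℕ}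
    (hp : p.Prime) (hq : q.Prime) (hqp : q ≠ p) (hp2 : p ≠ 2)
    (hpK : (p : K) ≠ 0) (hqK : (q : K) ≠ 0)
    (Q : Subgroup Γ) [Finite Q] (hQ : IsPGroup q Q) (x y : Γ) (e : ℕ) (he : 1 ≤ e)
    (hx : x ^ (p ^ e) = 1) (hy : y = x ^ (p ^ (e - 1)))
    (hxQ : ∀ g ∈ Q, x * g * x⁻¹ ∈ Q)
    (hsc : ∀ g ∈ Q, ∀ h ∈ Q, ∃ c : K, ρ (g * h * g⁻¹ * h⁻¹) = c • (1 : Module.End K V))
    (hfix : ∀ w : V, ρ x w = w → w = 0)
    (hCy : ∀ c ∈ Q, y * c * y⁻¹ = c → ∀ g ∈ Q, c * g = g * c)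
    (hnt : ∃ g ∈ Q, ρ (y * g * y⁻¹ * g⁻¹) ≠ 1)
    (R : Subgroup Γ) (hR : ∀ g, g ∈ R ↔ g ∈ Q ∧ ∀ h ∈ Q, ρ (g * h * g⁻¹ * h⁻¹) = 1) :
    q = 2 ∧ ∃ e' m : ℕ, 1 ≤ e' ∧ e' ≤ e ∧ p ^ e' = 2 ^ m + 1 ∧
      R.relIndex Q = 2 ^ (2 * m) := by
  classical
  haveI : Fact q.Prime := ⟨hq⟩
  have hyQ : ∀ g ∈ Q, y * g * y⁻¹ ∈ Q := by rw [hy]; exact conj_pow_mem Q x hxQ _
  have hyp : y ^ p = 1 := by
    rw [hy, ← pow_mul, ← pow_succ, Nat.sub_add_cancel he, hx]
  -- the subgroup `[Q, y]`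
  obtain ⟨S, hS⟩ : ∃ S : Set Γ, S = {c | ∃ g ∈ Q, c = y * g * y⁻¹ * g⁻¹} := ⟨_, rfl⟩
  obtain ⟨Zc, hZc⟩ : ∃ Zc : Subgroup Γ, Zc = Subgroup.closure S := ⟨_, rfl⟩
  have hSZ : ∀ g ∈ Q, y * g * y⁻¹ * g⁻¹ ∈ Zc := by
    intro g hg
    rw [hZc]
    apply Subgroup.subset_closure
    rw [hS]
    exact ⟨g, hg, rfl⟩
  have hZcQ : Zc ≤ Q := by
    rw [hZc, Subgroup.closure_le, hS]
    rintro _ ⟨g, hg, rfl⟩
    exact Q.mul_mem (hyQ g hg) (Q.inv_mem hg)
  haveI : Finite ↥Zc := Finite.of_injective (Subgroup.inclusion hZcQ)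
    (Subgroup.inclusion_injective hZcQ)
  have hconj_closure : ∀ t : Γ, (∀ s ∈ S, t * s * t⁻¹ ∈ Zc) → ∀ z ∈ Zc, t * z * t⁻¹ ∈ Zc := by
    intro t ht z hz
    have hle : Zc ≤ Zc.comap (MulAut.conj t).toMonoidHom := by
      conv_lhs => rw [hZc]
      rw [Subgroup.closure_le]
      intro s hs
      exact ht s hs
    exact hle hz
  have hZcQn : ∀ g ∈ Q, ∀ z ∈ Zc, g * z * g⁻¹ ∈ Zc := by
    intro h hh
    apply hconj_closure
    rw [hS]
    rintro _ ⟨g, hg, rfl⟩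
    have e1 : h * (y * g * y⁻¹ * g⁻¹) * h⁻¹ =
        (y * h * y⁻¹ * h⁻¹)⁻¹ * (y * (h * g) * y⁻¹ * (h * g)⁻¹) := by group
    rw [e1]
    exact Zc.mul_mem (Zc.inv_mem (hSZ h hh)) (hSZ _ (Q.mul_mem hh hg))
  have hZcx : ∀ z ∈ Zc, x * z * x⁻¹ ∈ Zc := by
    apply hconj_closure
    rw [hS]
    rintro _ ⟨g, hg, rfl⟩
    have e1 : x * (y * g * y⁻¹ * g⁻¹) * x⁻¹ =
        y * (x * g * x⁻¹) * y⁻¹ * (x * g * x⁻¹)⁻¹ := by
      rw [hy]; group
    rw [e1]
    exact hSZ _ (hxQ g hg)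
  have hZcK : ((Nat.card Zc : ℕ) : K) ≠ 0 := by
    obtain ⟨j, hj⟩ := (hQ.to_le hZcQ).exists_card_eq
    rw [hj, Nat.cast_pow]
    exact pow_ne_zero _ hqK
  have hZc1 : ∃ z ∈ Zc, ρ z ≠ 1 := by
    obtain ⟨g, hg, hne⟩ := hnt
    exact ⟨_, hSZ g hg, hne⟩
  obtain ⟨W₂, hW₂0, hW₂Q, hW₂x, -, hfixW⟩ := exists_min_sub ρ Q Zc x hZcQn hZcx hZcK hZc1
  obtain ⟨k, hke, U, hUle, hU, hUx, hind⟩ :=
    clifford_pgroup ρ Q x p hp e hx hxQ W₂ hW₂0 hW₂Q hW₂x
  obtain ⟨u₀, hu₀U, hu₀0⟩ := Submodule.exists_mem_ne_zero_of_ne_bot hU.1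
  have hpk0 : 0 < p ^ k := pow_pos hp.pos k
  -- fixed vectors of `x ^ (p ^ k)` in `U` vanish
  have hsum : ∀ u ∈ U, ρ (x ^ (p ^ k)) u = u → u = 0 := by
    intro u hu hxu
    obtain ⟨v, hv⟩ : ∃ v, v = ∑ i ∈ Finset.range (p ^ k), ρ (x ^ i) u := ⟨_, rfl⟩
    have hxv : ρ x v = v := by
      rw [hv, map_sum]
      have h0 : ∀ i, ρ x (ρ (x ^ i) u) = ρ (x ^ (i + 1)) u := by
        intro i
        rw [pow_succ', map_mul, Module.End.mul_apply]
      rw [Finset.sum_congr rfl (fun i _ => h0 i)]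
      have h1 := Finset.sum_range_succ (fun i => ρ (x ^ i) u) (p ^ k)
      have h2 := Finset.sum_range_succ' (fun i => ρ (x ^ i) u) (p ^ k)
      rw [h1] at h2
      simp only [pow_zero, map_one, Module.End.one_apply] at h2
      rw [hxu] at h2
      exact (add_right_cancel h2).symm
    have hv0 : v = 0 := hfix v hxv
    have := hind (fun i => ρ (x ^ i) u) (fun i => Submodule.mem_map_of_mem hu)
      (by rw [← hv]; exact hv0) 0 hpk0
    simpa using this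
  have hk : k < e := by
    rcases lt_or_eq_of_le hke with h | h
    · exact h
    · exfalso
      apply hu₀0
      apply hsum u₀ hu₀U
      rw [h, hx, map_one, Module.End.one_apply]
  obtain ⟨a, ha⟩ : ∃ a, e = k + a + 1 := ⟨e - k - 1, by omega⟩
  obtain ⟨x', hx'⟩ : ∃ x', x' = x ^ (p ^ k) := ⟨_, rfl⟩
  rw [← hx'] at hUx hsum
  have hx'pow : x' ^ (p ^ (a + 1)) = 1 := by
    rw [hx', ← pow_mul, ← pow_add, ← add_assoc, ← ha, hx]
  have hy' : y = x' ^ (p ^ a) := by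
    rw [hy, hx', ← pow_mul, ← pow_add]
    congr 2
    omega
  have hx'Q : ∀ g ∈ Q, x' * g * x'⁻¹ ∈ Q := by
    rw [hx']
    exact conj_pow_mem Q x hxQ _
  obtain ⟨Z₁, hZ₁⟩ := exists_scalar_subgroup ρ Q U hU.1 hU.2.1
  have hrel := fpf_rel p hp ρ Q q hq hqp hQ hpK hqK x' y a hx'pow hy' hx'Q U hU hUx
    (by
      intro g hg h hh
      obtain ⟨c, hc⟩ := hsc g hg h hh
      exact ⟨c, fun u _ => by rw [hc, LinearMap.smul_apply, Module.End.one_apply]⟩)
    (by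
      intro c hc hyc
      have hcc := hCy c hc hyc
      apply schur_rel ρ Q U hU (ρ c) (fun u hu => hU.2.1.mem hc hu)
      intro g hg u _
      show (ρ g * ρ c) u = (ρ c * ρ g) u
      rw [← map_mul, ← map_mul, hcc g hg])
    hsum Z₁ hZ₁
  obtain ⟨hD, hDD⟩ := hrel
  -- `dim U = 1` is impossible
  have hD1 : finrank K U ≠ 1 := by
    intro h1
    rw [h1] at hDD
    have hQZ : Q ≤ Z₁ := Subgroup.relIndex_eq_one.1 hDD.symm
    have hyU : U.map (ρ y) ≤ U := by rw [hy']; exact map_pow_le ρ x' U hUx _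
    have hyinvU : U.map (ρ y⁻¹) ≤ U := map_inv_le_of_pow ρ y p hp.pos hyp U hyU
    obtain ⟨Fx, hFx⟩ : ∃ Fx : Subgroup Γ, ∀ g, g ∈ Fx ↔ ∀ w ∈ U, ρ g w = w :=
      ⟨{ carrier := {g | ∀ w ∈ U, ρ g w = w}
         mul_mem' := by
           intro a b ha hb w hw
           rw [map_mul, Module.End.mul_apply, hb w hw, ha w hw]
         one_mem' := by
           intro w _
           rw [map_one, Module.End.one_apply]
         inv_mem' := by
           intro a ha w hw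
           have := ha w hw
           conv_lhs => rw [← this]
           exact rho_inv_mul ρ a w }, fun g => Iff.rfl⟩
    have hle : Zc ≤ Fx := by
      rw [hZc, Subgroup.closure_le, hS]
      rintro _ ⟨g, hg, rfl⟩
      rw [SetLike.mem_coe, hFx]
      intro w hw
      obtain ⟨-, l, hl⟩ := (hZ₁ g).1 (hQZ hg)
      have h1 : ρ g⁻¹ w ∈ U := hU.2.1.mem (Q.inv_mem hg) hw
      have h2 : ρ y⁻¹ (ρ g⁻¹ w) ∈ U := hyinvU (Submodule.mem_map_of_mem h1)
      rw [map_mul, map_mul, map_mul, Module.End.mul_apply, Module.End.mul_apply,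
        Module.End.mul_apply, hl _ h2, map_smul, rho_mul_inv, ← hl _ h1, rho_mul_inv]
    apply hu₀0
    apply hfixW u₀ (hUle hu₀U)
    intro z hz
    exact (hFx z).1 (hle hz) u₀ hu₀U
  have hDp : finrank K U + 1 = p ^ (a + 1) := by
    rcases hD with h | h
    · exact absurd h hD1
    · exact h
  -- `R` is the scalar subgroup on `U`
  have hRZ : R = Z₁ := by
    ext g
    rw [hR, hZ₁]
    constructor
    · rintro ⟨hg, hcomm⟩
      refine ⟨hg, ?_⟩
      apply schur_rel ρ Q U hU (ρ g) (fun u hu => hU.2.1.mem hg hu)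
      intro h hh u _
      have h1 := hcomm h hh
      have h2 : g * h = (g * h * g⁻¹ * h⁻¹) * (h * g) := by group
      have h3 : ρ g * ρ h = ρ h * ρ g := by
        calc ρ g * ρ h = ρ (g * h) := (map_mul ρ g h).symm
          _ = ρ ((g * h * g⁻¹ * h⁻¹) * (h * g)) := by rw [← h2]
          _ = ρ (g * h * g⁻¹ * h⁻¹) * ρ (h * g) := map_mul ρ _ _
          _ = ρ h * ρ g := by rw [h1, one_mul, map_mul]
      show (ρ h * ρ g) u = (ρ g * ρ h) u
      rw [h3]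
    · rintro ⟨hg, l, hl⟩
      refine ⟨hg, ?_⟩
      intro h hh
      obtain ⟨c, hc⟩ := hsc g hg h hh
      have hl0 : l ≠ 0 := by
        intro h0
        apply hu₀0
        have h3 := hl u₀ hu₀U
        rw [h0, zero_smul] at h3
        have h4 := rho_inv_mul ρ g u₀
        rw [h3, map_zero] at h4
        exact h4.symm
      have h2 : g * h = (g * h * g⁻¹ * h⁻¹) * (h * g) := by group
      have hop : ρ g * ρ h = c • (ρ h * ρ g) := by
        calc ρ g * ρ h = ρ (g * h) := (map_mul ρ g h).symm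
          _ = ρ ((g * h * g⁻¹ * h⁻¹) * (h * g)) := by rw [← h2]
          _ = ρ (g * h * g⁻¹ * h⁻¹) * ρ (h * g) := map_mul ρ _ _
          _ = c • (ρ h * ρ g) := by rw [hc, smul_mul_assoc, one_mul, map_mul]
      have h3 : ρ g (ρ h u₀) = c • ρ h (ρ g u₀) := by
        have h3' := LinearMap.congr_fun hop u₀
        rw [Module.End.mul_apply, LinearMap.smul_apply, Module.End.mul_apply] at h3'
        exact h3'
      have h4 : ρ h u₀ ∈ U := hU.2.1.mem hh hu₀U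
      rw [hl _ h4, hl _ hu₀U, map_smul, smul_smul] at h3
      have h5 : ρ h u₀ ≠ 0 := by
        intro h0
        apply hu₀0
        have h6 := rho_inv_mul ρ h u₀
        rw [h0, map_zero] at h6
        exact h6.symm
      have h7 : (l - c * l) • ρ h u₀ = 0 := by rw [sub_smul, ← h3, sub_self]
      rcases smul_eq_zero.1 h7 with h8 | h8
      · have hc1 : c = 1 := by
          have h9 : l * (1 - c) = 0 := by rw [← h8]; ring
          rcases mul_eq_zero.1 h9 with h10 | h10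
          · exact absurd h10 hl0
          · exact (sub_eq_zero.1 h10).symm
        rw [hc, hc1, one_smul]
      · exact absurd h8 h5
  -- arithmetic
  obtain ⟨D, hDdef⟩ : ∃ D, D = finrank K U := ⟨_, rfl⟩
  rw [← hDdef] at hDD hDp
  have hidx : Z₁.relIndex Q ∣ Nat.card Q := Subgroup.relIndex_dvd_card Z₁ Q
  obtain ⟨j, hj⟩ := hQ.exists_card_eq
  have hDdvd : D ∣ q ^ j := by
    rw [← hj]
    refine Dvd.dvd.trans (Dvd.intro D rfl) ?_
    rw [hDD]
    exact hidx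
  obtain ⟨m, -, hm⟩ := (Nat.dvd_prime_pow hq).1 hDdvd
  have hpodd : Odd (p ^ (a + 1)) := (hp.odd_of_ne_two hp2).pow
  have hDeven : Even D := by
    by_contra hne
    rw [Nat.not_even_iff_odd] at hne
    have h1 : Even (D + 1) := hne.add_one
    rw [hDp] at h1
    exact (Nat.not_even_iff_odd.2 hpodd) h1
  have h2 : Even q ∧ m ≠ 0 := by
    rw [hm] at hDeven
    exact Nat.even_pow.1 hDeven
  have hq2 : q = 2 := (Nat.Prime.even_iff hq).1 h2.1
  refine ⟨hq2, a + 1, m, by omega, by omega, ?_, ?_⟩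
  · rw [← hDp, hm, hq2]
  · rw [hRZ, ← hDD, hm, hq2, ← pow_add]
    congr 1
    omega

end Cfsg.Agent.Helper9.GrossBr
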