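import Mathlib
import Cfsg.Agent.Helper9.GrossBr.PPtop

set_option autoImplicit false

namespace Cfsg.Agent.Helper9.GrossBr

open Module Cfsg.Agent.Helper3.FrobActC Cfsg.Agent.Helper3.HH Cfsg.Agent.Helper3.Shult

set_option maxHeartbeats 2000000 in
/-- **Lemma PP** (prime-power Shult index), relative to an invariant subspace `M`
(interface of `notes/S3793_plan.md` §3). -/
theorem shult_index_pp' {k : Type*} [Field k] [IsAlgClosed k] {Γ : Type*} [Group Γ] [Finite Γ]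
    {W : Type*} [AddCommGroup W] [Module k W] [Module.Finite k W] (ρ : Representation k Γ W)
    {p q : ℕ} (hp : p.Prime) (hq : q.Prime) (hqp : q ≠ p) (hp2 : p ≠ 2)
    (hpk : (p : k) ≠ 0) (hqk : (q : k) ≠ 0) (Q : Subgroup Γ) (hQ : IsPGroup q Q) (x : Γ) (e : ℕ)
    (he : 1 ≤ e) (hx : x ^ (p ^ e) = 1) (hxQ : x ∈ Subgroup.normalizer (Q : Set Γ))
    (M : Submodule k W) (hMQ : ∀ g ∈ Q, ∀ w ∈ M, ρ g w ∈ M) (hMx : ∀ w ∈ M, ρ x w ∈ M)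
    (hsc : ∀ g ∈ Q, ∀ h ∈ Q, ∃ c : k, ∀ w ∈ M, ρ (g * h * g⁻¹ * h⁻¹) w = c • w)
    (hfix : ∀ w ∈ M, ρ x w = w → w = 0)
    (hCy : ∀ c ∈ Q, x ^ (p ^ (e - 1)) * c = c * x ^ (p ^ (e - 1)) → ∀ g ∈ Q, c * g = g * c)
    (hnt : ∃ g ∈ Q, ∃ w ∈ M, ρ (x ^ (p ^ (e - 1)) * g * (x ^ (p ^ (e - 1)))⁻¹) w ≠ ρ g w)
    (R : Subgroup Γ)
    (hR : ∀ g, g ∈ R ↔ g ∈ Q ∧ ∀ h ∈ Q, ∀ w ∈ M, ρ (g * h * g⁻¹ * h⁻¹) w = w) :
    q = 2 ∧ ∃ e' m : ℕ, 1 ≤ e' ∧ e' ≤ e ∧ p ^ e' = 2 ^ m + 1 ∧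
      R.relIndex Q = 2 ^ (2 * m) := by
  classical
  have hxQ' : ∀ g ∈ Q, x * g * x⁻¹ ∈ Q := fun g hg =>
    (Subgroup.mem_normalizer_iff.1 hxQ g).1 hg
  have hN0 : 0 < p ^ e := pow_pos hp.pos _
  obtain ⟨y, hy⟩ : ∃ y, y = x ^ (p ^ (e - 1)) := ⟨_, rfl⟩
  rw [← hy] at hCy hnt
  obtain ⟨Γ₁, hΓ₁⟩ : ∃ Γ₁ : Subgroup Γ, Γ₁ = stab ρ M := ⟨_, rfl⟩
  have hΓ₁mem : ∀ g : Γ, g ∈ Γ₁ ↔ M.map (ρ g) ≤ M ∧ M.map (ρ g⁻¹) ≤ M := by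
    intro g
    rw [hΓ₁]
    exact mem_stab ρ M g
  have hMQ' : FInv ρ Q M := finv_of_mem hMQ
  have hMx' : M.map (ρ x) ≤ M := by
    rintro _ ⟨w, hw, rfl⟩
    exact hMx w hw
  have hQΓ : Q ≤ Γ₁ := by
    intro g hg
    rw [hΓ₁mem]
    exact ⟨hMQ' g hg, hMQ' g⁻¹ (Q.inv_mem hg)⟩
  have hxΓ : x ∈ Γ₁ := by
    rw [hΓ₁mem]
    exact ⟨hMx', map_inv_le_of_pow ρ x _ hN0 hx M hMx'⟩
  have hΓinv : ∀ g : ↥Γ₁, ∀ w ∈ M, (ρ.comp Γ₁.subtype) g w ∈ M := by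
    intro g w hw
    have := (hΓ₁mem (g : Γ)).1 g.2
    exact this.1 (Submodule.mem_map_of_mem hw)
  obtain ⟨ρ₁, hρ₁⟩ : ∃ ρ₁ : Representation k ↥Γ₁ ↥M,
      ∀ (g : ↥Γ₁) (w : ↥M), ((ρ₁ g w : ↥M) : W) = ρ (g : Γ) (w : W) :=
    ⟨subRep (ρ.comp Γ₁.subtype) M hΓinv, fun g w => rfl⟩
  obtain ⟨x₁, hx₁⟩ : ∃ x₁ : ↥Γ₁, (x₁ : Γ) = x := ⟨⟨x, hxΓ⟩, rfl⟩
  obtain ⟨y₁, hy₁⟩ : ∃ y₁ : ↥Γ₁, y₁ = x₁ ^ (p ^ (e - 1)) := ⟨_, rfl⟩
  have hy₁coe : (y₁ : Γ) = y := by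
    rw [hy₁, Subgroup.coe_pow, hx₁, hy]
  obtain ⟨N₁, hN₁⟩ : ∃ N₁ : Subgroup ↥Γ₁, N₁ = Q.subgroupOf Γ₁ := ⟨_, rfl⟩
  have hN₁mem : ∀ g : ↥Γ₁, g ∈ N₁ ↔ (g : Γ) ∈ Q := by
    intro g
    rw [hN₁, Subgroup.mem_subgroupOf]
  have hN₁equiv : N₁ ≃* Q := by
    rw [hN₁]
    exact Subgroup.subgroupOfEquivOfLe hQΓ
  haveI : Finite ↥N₁ := Finite.of_equiv _ hN₁equiv.symm.toEquiv
  have hN₁p : IsPGroup q N₁ := hQ.of_equiv hN₁equiv.symm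
  have hcoe_conjx : ∀ g : ↥Γ₁, ((x₁ * g * x₁⁻¹ : ↥Γ₁) : Γ) = x * (g : Γ) * x⁻¹ := by
    intro g
    rw [Subgroup.coe_mul, Subgroup.coe_mul, Subgroup.coe_inv, hx₁]
  have hcoe_conjy : ∀ g : ↥Γ₁, ((y₁ * g * y₁⁻¹ : ↥Γ₁) : Γ) = y * (g : Γ) * y⁻¹ := by
    intro g
    rw [Subgroup.coe_mul, Subgroup.coe_mul, Subgroup.coe_inv, hy₁coe]
  -- operators on `M` in both languages
  have hscal : ∀ (g : ↥Γ₁) (l : k), ρ₁ g = l • (1 : Module.End k ↥M) ↔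
      ∀ u ∈ M, ρ (g : Γ) u = l • u := by
    intro g l
    constructor
    · intro h u hu
      have h2 := LinearMap.congr_fun h ⟨u, hu⟩
      have h3 := congrArg Subtype.val h2
      rw [hρ₁, LinearMap.smul_apply, Module.End.one_apply] at h3
      exact h3
    · intro h
      ext u
      rw [hρ₁, LinearMap.smul_apply, Module.End.one_apply]
      exact h u u.2
  have hone : ∀ (g : ↥Γ₁), ρ₁ g = 1 ↔ ∀ u ∈ M, ρ (g : Γ) u = u := by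
    intro g
    have := hscal g 1
    rw [one_smul] at this
    rw [this]
    constructor
    · intro h u hu; rw [h u hu, one_smul]
    · intro h u hu; rw [h u hu, one_smul]
  have hcomm_coe : ∀ g h : ↥Γ₁, ((g * h * g⁻¹ * h⁻¹ : ↥Γ₁) : Γ) =
      (g : Γ) * (h : Γ) * (g : Γ)⁻¹ * (h : Γ)⁻¹ := by
    intro g h
    simp only [Subgroup.coe_mul, Subgroup.coe_inv]
  have htop := pp_top ρ₁ hp hq hqp hp2 hpk hqk N₁ hN₁p x₁ y₁ e he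
    (by
      apply Subtype.ext
      rw [Subgroup.coe_pow, hx₁, hx, Subgroup.coe_one])
    hy₁
    (by
      intro n hn
      rw [hN₁mem] at hn ⊢
      rw [hcoe_conjx]
      exact hxQ' _ hn)
    (by
      intro g hg h hh
      rw [hN₁mem] at hg hh
      obtain ⟨c, hc⟩ := hsc _ hg _ hh
      refine ⟨c, ?_⟩
      rw [hscal, hcomm_coe]
      exact hc)
    (by
      intro w hw
      have h3 := congrArg Subtype.val hw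
      rw [hρ₁, hx₁] at h3
      exact Subtype.ext (hfix (w : W) w.2 h3))
    (by
      intro c hc hcy g hg
      rw [hN₁mem] at hc hg
      apply Subtype.ext
      rw [Subgroup.coe_mul, Subgroup.coe_mul]
      apply hCy _ hc _ _ hg
      have h1 : y * (c : Γ) * y⁻¹ = (c : Γ) := by rw [← hcoe_conjy, hcy]
      calc y * (c : Γ) = y * (c : Γ) * y⁻¹ * y := by group
        _ = (c : Γ) * y := by rw [h1])
    (by
      obtain ⟨g, hg, w, hw, hne⟩ := hnt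
      refine ⟨⟨g, hQΓ hg⟩, (hN₁mem _).2 hg, ?_⟩
      intro h1
      rw [hone] at h1
      apply hne
      have h2 : ρ g⁻¹ (ρ g w) = w := rho_inv_mul ρ g w
      have h3 := h1 (ρ g w) (hMQ g hg w hw)
      have h4 : (((y₁ * ⟨g, hQΓ hg⟩ * y₁⁻¹ * (⟨g, hQΓ hg⟩ : ↥Γ₁)⁻¹ : ↥Γ₁)) : Γ) =
          y * g * y⁻¹ * g⁻¹ := by
        simp only [Subgroup.coe_mul, Subgroup.coe_inv, hy₁coe]
      rw [h4, map_mul, Module.End.mul_apply, h2] at h3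
      exact h3)
    (R.subgroupOf Γ₁)
    (by
      intro g
      rw [Subgroup.mem_subgroupOf, hR, hN₁mem]
      constructor
      · rintro ⟨h1, h2⟩
        refine ⟨h1, ?_⟩
        intro h hh
        rw [hone, hcomm_coe]
        exact h2 _ ((hN₁mem h).1 hh)
      · rintro ⟨h1, h2⟩
        refine ⟨h1, ?_⟩
        intro h hh
        have := h2 ⟨h, hQΓ hh⟩ ((hN₁mem _).2 hh)
        rw [hone, hcomm_coe] at this
        exact this)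
  rw [hN₁, Subgroup.relIndex_subgroupOf hQΓ] at htop
  exact htop

end Cfsg.Agent.Helper9.GrossBr
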