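import Mathlib
import Cfsg.Agent.Helper9.GrossBr.PPfin

set_option autoImplicit false

namespace Cfsg.Agent.Helper9.GrossBr

open Module Cfsg.Agent.Helper3.FrobActC Cfsg.Agent.Helper3.HH Cfsg.Agent.Helper3.Shult

set_option maxHeartbeats 2000000 in
/-- Lemma PP on the whole space, for all primes `p` (including `p = 2`): the index of `R` is
`(p ^ e' - 1) ^ 2`. -/
theorem pp_top_gen {K : Type*} [Field K] [IsAlgClosed K] {V : Type*} [AddCommGroup V] [Module K V]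
    [FiniteDimensional K V] {Γ : Type*} [Group Γ] (ρ : Representation K Γ V) {p q : ℕ}
    (hp : p.Prime) (hq : q.Prime) (hqp : q ≠ p)
    (hpK : (p : K) ≠ 0) (hqK : (q : K) ≠ 0)
    (Q : Subgroup Γ) [Finite Q] (hQ : IsPGroup q Q) (x y : Γ) (e : ℕ) (he : 1 ≤ e)
    (hx : x ^ (p ^ e) = 1) (hy : y = x ^ (p ^ (e - 1)))
    (hxQ : ∀ g ∈ Q, x * g * x⁻¹ ∈ Q)
    (hsc : ∀ g ∈ Q, ∀ h ∈ Q, ∃ c : K, ρ (g * h * g⁻¹ * h⁻¹) = c • (1 : Module.End K V))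
    (hfix : ∀ w : V, ρ x w = w → w = 0)
    (hCy : ∀ c ∈ Q, y * c * y⁻¹ = c → ∀ g ∈ Q, c * g = g * c)
    (hnt : ∃ g ∈ Q, ρ (y * g * y⁻¹ * g⁻¹) ≠ 1)
    (R : Subgroup Γ) (hR : ∀ g, g ∈ R ↔ g ∈ Q ∧ ∀ h ∈ Q, ρ (g * h * g⁻¹ * h⁻¹) = 1) :
    ∃ e' : ℕ, 1 ≤ e' ∧ e' ≤ e ∧ R.relIndex Q = (p ^ e' - 1) ^ 2 ∧ 2 ≤ p ^ e' - 1 := by
  classical
  haveI : Fact q.Prime := ⟨hq⟩
  have hyQ : ∀ g ∈ Q, y * g * y⁻¹ ∈ Q := by rw [hy]; exact conj_pow_mem Q x hxQ _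
  have hyp : y ^ p = 1 := by
    rw [hy, ← pow_mul, ← pow_succ, Nat.sub_add_cancel he, hx]
  -- the subgroup `[Q, y]`
  obtain ⟨S, hS⟩ : ∃ S : Set Γ, S = {c | ∃ g ∈ Q, c = y * g * y⁻¹ * g⁻¹} := ⟨_, rfl⟩
  obtain ⟨Zc, hZc⟩ : ∃ Zc : Subgroup Γ, Zc = Subgroup.closure S := ⟨_, rfl⟩
  have hSZ : ∀ g ∈ Q, y * g * y⁻¹ * g⁻¹ ∈ Zc := by
    intro g hg
    rw [hZc]
    apply Subgroup.subset_closure
    rw [hS]
    exact ⟨g, hg, rfl⟩
  have hZcQ : Zc ≤ Q := by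
    rw [hZc, Subgroup.closure_le, hS]
    rintro _ ⟨g, hg, rfl⟩
    exact Q.mul_mem (hyQ g hg) (Q.inv_mem hg)
  haveI : Finite ↥Zc := Finite.of_injective (Subgroup.inclusion hZcQ)
    (Subgroup.inclusion_injective hZcQ)
  have hconj_closure : ∀ t : Γ, (∀ s ∈ S, t * s * t⁻¹ ∈ Zc) → ∀ z ∈ Zc, t * z * t⁻¹ ∈ Zc := by
    intro t ht z hz
    have hle : Zc ≤ Zc.comap (MulAut.conj t).toMonoidHom := by
      conv_lhs => rw [hZc]
      rw [Subgroup.closure_le]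
      intro s hs
      exact ht s hs
    exact hle hz
  have hZcQn : ∀ g ∈ Q, ∀ z ∈ Zc, g * z * g⁻¹ ∈ Zc := by
    intro h hh
    apply hconj_closure
    rw [hS]
    rintro _ ⟨g, hg, rfl⟩
    have e1 : h * (y * g * y⁻¹ * g⁻¹) * h⁻¹ =
        (y * h * y⁻¹ * h⁻¹)⁻¹ * (y * (h * g) * y⁻¹ * (h * g)⁻¹) := by group
    rw [e1]
    exact Zc.mul_mem (Zc.inv_mem (hSZ h hh)) (hSZ _ (Q.mul_mem hh hg))
  have hZcx : ∀ z ∈ Zc, x * z * x⁻¹ ∈ Zc := by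
    apply hconj_closure
    rw [hS]
    rintro _ ⟨g, hg, rfl⟩
    have e1 : x * (y * g * y⁻¹ * g⁻¹) * x⁻¹ =
        y * (x * g * x⁻¹) * y⁻¹ * (x * g * x⁻¹)⁻¹ := by
      rw [hy]; group
    rw [e1]
    exact hSZ _ (hxQ g hg)
  have hZcK : ((Nat.card Zc : ℕ) : K) ≠ 0 := by
    obtain ⟨j, hj⟩ := (hQ.to_le hZcQ).exists_card_eq
    rw [hj, Nat.cast_pow]
    exact pow_ne_zero _ hqK
  have hZc1 : ∃ z ∈ Zc, ρ z ≠ 1 := by
    obtain ⟨g, hg, hne⟩ := hnt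
    exact ⟨_, hSZ g hg, hne⟩
  obtain ⟨W₂, hW₂0, hW₂Q, hW₂x, -, hfixW⟩ := exists_min_sub ρ Q Zc x hZcQn hZcx hZcK hZc1
  obtain ⟨k, hke, U, hUle, hU, hUx, hind⟩ :=
    clifford_pgroup ρ Q x p hp e hx hxQ W₂ hW₂0 hW₂Q hW₂x
  obtain ⟨u₀, hu₀U, hu₀0⟩ := Submodule.exists_mem_ne_zero_of_ne_bot hU.1
  have hpk0 : 0 < p ^ k := pow_pos hp.pos k
  -- fixed vectors of `x ^ (p ^ k)` in `U` vanish
  have hsum : ∀ u ∈ U, ρ (x ^ (p ^ k)) u = u → u = 0 := by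
    intro u hu hxu
    obtain ⟨v, hv⟩ : ∃ v, v = ∑ i ∈ Finset.range (p ^ k), ρ (x ^ i) u := ⟨_, rfl⟩
    have hxv : ρ x v = v := by
      rw [hv, map_sum]
      have h0 : ∀ i, ρ x (ρ (x ^ i) u) = ρ (x ^ (i + 1)) u := by
        intro i
        rw [pow_succ', map_mul, Module.End.mul_apply]
      rw [Finset.sum_congr rfl (fun i _ => h0 i)]
      have h1 := Finset.sum_range_succ (fun i => ρ (x ^ i) u) (p ^ k)
      have h2 := Finset.sum_range_succ' (fun i => ρ (x ^ i) u) (p ^ k)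
      rw [h1] at h2
      simp only [pow_zero, map_one, Module.End.one_apply] at h2
      rw [hxu] at h2
      exact (add_right_cancel h2).symm
    have hv0 : v = 0 := hfix v hxv
    have := hind (fun i => ρ (x ^ i) u) (fun i => Submodule.mem_map_of_mem hu)
      (by rw [← hv]; exact hv0) 0 hpk0
    simpa using this
  have hk : k < e := by
    rcases lt_or_eq_of_le hke with h | h
    · exact h
    · exfalso
      apply hu₀0
      apply hsum u₀ hu₀U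
      rw [h, hx, map_one, Module.End.one_apply]
  obtain ⟨a, ha⟩ : ∃ a, e = k + a + 1 := ⟨e - k - 1, by omega⟩
  obtain ⟨x', hx'⟩ : ∃ x', x' = x ^ (p ^ k) := ⟨_, rfl⟩
  rw [← hx'] at hUx hsum
  have hx'pow : x' ^ (p ^ (a + 1)) = 1 := by
    rw [hx', ← pow_mul, ← pow_add, ← add_assoc, ← ha, hx]
  have hy' : y = x' ^ (p ^ a) := by
    rw [hy, hx', ← pow_mul, ← pow_add]
    congr 2
    omega
  have hx'Q : ∀ g ∈ Q, x' * g * x'⁻¹ ∈ Q := by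
    rw [hx']
    exact conj_pow_mem Q x hxQ _
  obtain ⟨Z₁, hZ₁⟩ := exists_scalar_subgroup ρ Q U hU.1 hU.2.1
  have hrel := fpf_rel p hp ρ Q q hq hqp hQ hpK hqK x' y a hx'pow hy' hx'Q U hU hUx
    (by
      intro g hg h hh
      obtain ⟨c, hc⟩ := hsc g hg h hh
      exact ⟨c, fun u _ => by rw [hc, LinearMap.smul_apply, Module.End.one_apply]⟩)
    (by
      intro c hc hyc
      have hcc := hCy c hc hyc
      apply schur_rel ρ Q U hU (ρ c) (fun u hu => hU.2.1.mem hc hu)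
      intro g hg u _
      show (ρ g * ρ c) u = (ρ c * ρ g) u
      rw [← map_mul, ← map_mul, hcc g hg])
    hsum Z₁ hZ₁
  obtain ⟨hD, hDD⟩ := hrel
  -- `dim U = 1` is impossible
  have hD1 : finrank K U ≠ 1 := by
    intro h1
    rw [h1] at hDD
    have hQZ : Q ≤ Z₁ := Subgroup.relIndex_eq_one.1 hDD.symm
    have hyU : U.map (ρ y) ≤ U := by rw [hy']; exact map_pow_le ρ x' U hUx _
    have hyinvU : U.map (ρ y⁻¹) ≤ U := map_inv_le_of_pow ρ y p hp.pos hyp U hyU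
    obtain ⟨Fx, hFx⟩ : ∃ Fx : Subgroup Γ, ∀ g, g ∈ Fx ↔ ∀ w ∈ U, ρ g w = w :=
      ⟨{ carrier := {g | ∀ w ∈ U, ρ g w = w}
         mul_mem' := by
           intro a b ha hb w hw
           rw [map_mul, Module.End.mul_apply, hb w hw, ha w hw]
         one_mem' := by
           intro w _
           rw [map_one, Module.End.one_apply]
         inv_mem' := by
           intro a ha w hw
           have := ha w hw
           conv_lhs => rw [← this]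
           exact rho_inv_mul ρ a w }, fun g => Iff.rfl⟩
    have hle : Zc ≤ Fx := by
      rw [hZc, Subgroup.closure_le, hS]
      rintro _ ⟨g, hg, rfl⟩
      rw [SetLike.mem_coe, hFx]
      intro w hw
      obtain ⟨-, l, hl⟩ := (hZ₁ g).1 (hQZ hg)
      have h1 : ρ g⁻¹ w ∈ U := hU.2.1.mem (Q.inv_mem hg) hw
      have h2 : ρ y⁻¹ (ρ g⁻¹ w) ∈ U := hyinvU (Submodule.mem_map_of_mem h1)
      rw [map_mul, map_mul, map_mul, Module.End.mul_apply, Module.End.mul_apply,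
        Module.End.mul_apply, hl _ h2, map_smul, rho_mul_inv, ← hl _ h1, rho_mul_inv]
    apply hu₀0
    apply hfixW u₀ (hUle hu₀U)
    intro z hz
    exact (hFx z).1 (hle hz) u₀ hu₀U
  have hDp : finrank K U + 1 = p ^ (a + 1) := by
    rcases hD with h | h
    · exact absurd h hD1
    · exact h
  -- `R` is the scalar subgroup on `U`
  have hRZ : R = Z₁ := by
    ext g
    rw [hR, hZ₁]
    constructor
    · rintro ⟨hg, hcomm⟩
      refine ⟨hg, ?_⟩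
      apply schur_rel ρ Q U hU (ρ g) (fun u hu => hU.2.1.mem hg hu)
      intro h hh u _
      have h1 := hcomm h hh
      have h2 : g * h = (g * h * g⁻¹ * h⁻¹) * (h * g) := by group
      have h3 : ρ g * ρ h = ρ h * ρ g := by
        calc ρ g * ρ h = ρ (g * h) := (map_mul ρ g h).symm
          _ = ρ ((g * h * g⁻¹ * h⁻¹) * (h * g)) := by rw [← h2]
          _ = ρ (g * h * g⁻¹ * h⁻¹) * ρ (h * g) := map_mul ρ _ _
          _ = ρ h * ρ g := by rw [h1, one_mul, map_mul]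
      show (ρ h * ρ g) u = (ρ g * ρ h) u
      rw [h3]
    · rintro ⟨hg, l, hl⟩
      refine ⟨hg, ?_⟩
      intro h hh
      obtain ⟨c, hc⟩ := hsc g hg h hh
      have hl0 : l ≠ 0 := by
        intro h0
        apply hu₀0
        have h3 := hl u₀ hu₀U
        rw [h0, zero_smul] at h3
        have h4 := rho_inv_mul ρ g u₀
        rw [h3, map_zero] at h4
        exact h4.symm
      have h2 : g * h = (g * h * g⁻¹ * h⁻¹) * (h * g) := by group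
      have hop : ρ g * ρ h = c • (ρ h * ρ g) := by
        calc ρ g * ρ h = ρ (g * h) := (map_mul ρ g h).symm
          _ = ρ ((g * h * g⁻¹ * h⁻¹) * (h * g)) := by rw [← h2]
          _ = ρ (g * h * g⁻¹ * h⁻¹) * ρ (h * g) := map_mul ρ _ _
          _ = c • (ρ h * ρ g) := by rw [hc, smul_mul_assoc, one_mul, map_mul]
      have h3 : ρ g (ρ h u₀) = c • ρ h (ρ g u₀) := by
        have h3' := LinearMap.congr_fun hop u₀
        rw [Module.End.mul_apply, LinearMap.smul_apply, Module.End.mul_apply] at h3'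
        exact h3'
      have h4 : ρ h u₀ ∈ U := hU.2.1.mem hh hu₀U
      rw [hl _ h4, hl _ hu₀U, map_smul, smul_smul] at h3
      have h5 : ρ h u₀ ≠ 0 := by
        intro h0
        apply hu₀0
        have h6 := rho_inv_mul ρ h u₀
        rw [h0, map_zero] at h6
        exact h6.symm
      have h7 : (l - c * l) • ρ h u₀ = 0 := by rw [sub_smul, ← h3, sub_self]
      rcases smul_eq_zero.1 h7 with h8 | h8
      · have hc1 : c = 1 := by
          have h9 : l * (1 - c) = 0 := by rw [← h8]; ring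
          rcases mul_eq_zero.1 h9 with h10 | h10
          · exact absurd h10 hl0
          · exact (sub_eq_zero.1 h10).symm
        rw [hc, hc1, one_smul]
      · exact absurd h8 h5
  -- arithmetic
  have hDpos : 1 ≤ finrank K U := by
    haveI : Nontrivial ↥U := Submodule.nontrivial_iff_ne_bot.2 hU.1
    exact Module.finrank_pos
  refine ⟨a + 1, by omega, by omega, ?_, ?_⟩
  · rw [hRZ, ← hDD, ← hDp, Nat.add_sub_cancel, sq]
  · rw [← hDp, Nat.add_sub_cancel]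
    omega

set_option maxHeartbeats 2000000 in
/-- **Lemma PP** for all primes `p` (including `p = 2`), relative to an invariant subspace `M`
(`PPcore` of `notes/S3795_plan.md` §2). -/
theorem shult_index_pp_gen {k : Type*} [Field k] [IsAlgClosed k] {Γ : Type*} [Group Γ] [Finite Γ]
    {W : Type*} [AddCommGroup W] [Module k W] [Module.Finite k W] (ρ : Representation k Γ W)
    {p q : ℕ} (hp : p.Prime) (hq : q.Prime) (hqp : q ≠ p)
    (hpk : (p : k) ≠ 0) (hqk : (q : k) ≠ 0) (Q : Subgroup Γ) (hQ : IsPGroup q Q) (x : Γ) (e : ℕ)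
    (he : 1 ≤ e) (hx : x ^ (p ^ e) = 1) (hxQ : x ∈ Subgroup.normalizer (Q : Set Γ))
    (M : Submodule k W) (hMQ : ∀ g ∈ Q, ∀ w ∈ M, ρ g w ∈ M) (hMx : ∀ w ∈ M, ρ x w ∈ M)
    (hsc : ∀ g ∈ Q, ∀ h ∈ Q, ∃ c : k, ∀ w ∈ M, ρ (g * h * g⁻¹ * h⁻¹) w = c • w)
    (hfix : ∀ w ∈ M, ρ x w = w → w = 0)
    (hCy : ∀ c ∈ Q, x ^ (p ^ (e - 1)) * c = c * x ^ (p ^ (e - 1)) → ∀ g ∈ Q, c * g = g * c)
    (hnt : ∃ g ∈ Q, ∃ w ∈ M, ρ (x ^ (p ^ (e - 1)) * g * (x ^ (p ^ (e - 1)))⁻¹) w ≠ ρ g w)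
    (R : Subgroup Γ)
    (hR : ∀ g, g ∈ R ↔ g ∈ Q ∧ ∀ h ∈ Q, ∀ w ∈ M, ρ (g * h * g⁻¹ * h⁻¹) w = w) :
    ∃ e' : ℕ, 1 ≤ e' ∧ e' ≤ e ∧ R.relIndex Q = (p ^ e' - 1) ^ 2 ∧ 2 ≤ p ^ e' - 1 := by
  classical
  have hxQ' : ∀ g ∈ Q, x * g * x⁻¹ ∈ Q := fun g hg =>
    (Subgroup.mem_normalizer_iff.1 hxQ g).1 hg
  have hN0 : 0 < p ^ e := pow_pos hp.pos _
  obtain ⟨y, hy⟩ : ∃ y, y = x ^ (p ^ (e - 1)) := ⟨_, rfl⟩
  rw [← hy] at hCy hnt
  obtain ⟨Γ₁, hΓ₁⟩ : ∃ Γ₁ : Subgroup Γ, Γ₁ = stab ρ M := ⟨_, rfl⟩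
  have hΓ₁mem : ∀ g : Γ, g ∈ Γ₁ ↔ M.map (ρ g) ≤ M ∧ M.map (ρ g⁻¹) ≤ M := by
    intro g
    rw [hΓ₁]
    exact mem_stab ρ M g
  have hMQ' : FInv ρ Q M := finv_of_mem hMQ
  have hMx' : M.map (ρ x) ≤ M := by
    rintro _ ⟨w, hw, rfl⟩
    exact hMx w hw
  have hQΓ : Q ≤ Γ₁ := by
    intro g hg
    rw [hΓ₁mem]
    exact ⟨hMQ' g hg, hMQ' g⁻¹ (Q.inv_mem hg)⟩
  have hxΓ : x ∈ Γ₁ := by
    rw [hΓ₁mem]
    exact ⟨hMx', map_inv_le_of_pow ρ x _ hN0 hx M hMx'⟩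
  have hΓinv : ∀ g : ↥Γ₁, ∀ w ∈ M, (ρ.comp Γ₁.subtype) g w ∈ M := by
    intro g w hw
    have := (hΓ₁mem (g : Γ)).1 g.2
    exact this.1 (Submodule.mem_map_of_mem hw)
  obtain ⟨ρ₁, hρ₁⟩ : ∃ ρ₁ : Representation k ↥Γ₁ ↥M,
      ∀ (g : ↥Γ₁) (w : ↥M), ((ρ₁ g w : ↥M) : W) = ρ (g : Γ) (w : W) :=
    ⟨subRep (ρ.comp Γ₁.subtype) M hΓinv, fun g w => rfl⟩
  obtain ⟨x₁, hx₁⟩ : ∃ x₁ : ↥Γ₁, (x₁ : Γ) = x := ⟨⟨x, hxΓ⟩, rfl⟩
  obtain ⟨y₁, hy₁⟩ : ∃ y₁ : ↥Γ₁, y₁ = x₁ ^ (p ^ (e - 1)) := ⟨_, rfl⟩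
  have hy₁coe : (y₁ : Γ) = y := by
    rw [hy₁, Subgroup.coe_pow, hx₁, hy]
  obtain ⟨N₁, hN₁⟩ : ∃ N₁ : Subgroup ↥Γ₁, N₁ = Q.subgroupOf Γ₁ := ⟨_, rfl⟩
  have hN₁mem : ∀ g : ↥Γ₁, g ∈ N₁ ↔ (g : Γ) ∈ Q := by
    intro g
    rw [hN₁, Subgroup.mem_subgroupOf]
  have hN₁equiv : N₁ ≃* Q := by
    rw [hN₁]
    exact Subgroup.subgroupOfEquivOfLe hQΓ
  haveI : Finite ↥N₁ := Finite.of_equiv _ hN₁equiv.symm.toEquiv
  have hN₁p : IsPGroup q N₁ := hQ.of_equiv hN₁equiv.symm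
  have hcoe_conjx : ∀ g : ↥Γ₁, ((x₁ * g * x₁⁻¹ : ↥Γ₁) : Γ) = x * (g : Γ) * x⁻¹ := by
    intro g
    rw [Subgroup.coe_mul, Subgroup.coe_mul, Subgroup.coe_inv, hx₁]
  have hcoe_conjy : ∀ g : ↥Γ₁, ((y₁ * g * y₁⁻¹ : ↥Γ₁) : Γ) = y * (g : Γ) * y⁻¹ := by
    intro g
    rw [Subgroup.coe_mul, Subgroup.coe_mul, Subgroup.coe_inv, hy₁coe]
  -- operators on `M` in both languages
  have hscal : ∀ (g : ↥Γ₁) (l : k), ρ₁ g = l • (1 : Module.End k ↥M) ↔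
      ∀ u ∈ M, ρ (g : Γ) u = l • u := by
    intro g l
    constructor
    · intro h u hu
      have h2 := LinearMap.congr_fun h ⟨u, hu⟩
      have h3 := congrArg Subtype.val h2
      rw [hρ₁, LinearMap.smul_apply, Module.End.one_apply] at h3
      exact h3
    · intro h
      ext u
      rw [hρ₁, LinearMap.smul_apply, Module.End.one_apply]
      exact h u u.2
  have hone : ∀ (g : ↥Γ₁), ρ₁ g = 1 ↔ ∀ u ∈ M, ρ (g : Γ) u = u := by
    intro g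
    have := hscal g 1
    rw [one_smul] at this
    rw [this]
    constructor
    · intro h u hu; rw [h u hu, one_smul]
    · intro h u hu; rw [h u hu, one_smul]
  have hcomm_coe : ∀ g h : ↥Γ₁, ((g * h * g⁻¹ * h⁻¹ : ↥Γ₁) : Γ) =
      (g : Γ) * (h : Γ) * (g : Γ)⁻¹ * (h : Γ)⁻¹ := by
    intro g h
    simp only [Subgroup.coe_mul, Subgroup.coe_inv]
  have htop := pp_top_gen ρ₁ hp hq hqp hpk hqk N₁ hN₁p x₁ y₁ e he
    (by
      apply Subtype.ext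
      rw [Subgroup.coe_pow, hx₁, hx, Subgroup.coe_one])
    hy₁
    (by
      intro n hn
      rw [hN₁mem] at hn ⊢
      rw [hcoe_conjx]
      exact hxQ' _ hn)
    (by
      intro g hg h hh
      rw [hN₁mem] at hg hh
      obtain ⟨c, hc⟩ := hsc _ hg _ hh
      refine ⟨c, ?_⟩
      rw [hscal, hcomm_coe]
      exact hc)
    (by
      intro w hw
      have h3 := congrArg Subtype.val hw
      rw [hρ₁, hx₁] at h3
      exact Subtype.ext (hfix (w : W) w.2 h3))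
    (by
      intro c hc hcy g hg
      rw [hN₁mem] at hc hg
      apply Subtype.ext
      rw [Subgroup.coe_mul, Subgroup.coe_mul]
      apply hCy _ hc _ _ hg
      have h1 : y * (c : Γ) * y⁻¹ = (c : Γ) := by rw [← hcoe_conjy, hcy]
      calc y * (c : Γ) = y * (c : Γ) * y⁻¹ * y := by group
        _ = (c : Γ) * y := by rw [h1])
    (by
      obtain ⟨g, hg, w, hw, hne⟩ := hnt
      refine ⟨⟨g, hQΓ hg⟩, (hN₁mem _).2 hg, ?_⟩
      intro h1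
      rw [hone] at h1
      apply hne
      have h2 : ρ g⁻¹ (ρ g w) = w := rho_inv_mul ρ g w
      have h3 := h1 (ρ g w) (hMQ g hg w hw)
      have h4 : (((y₁ * ⟨g, hQΓ hg⟩ * y₁⁻¹ * (⟨g, hQΓ hg⟩ : ↥Γ₁)⁻¹ : ↥Γ₁)) : Γ) =
          y * g * y⁻¹ * g⁻¹ := by
        simp only [Subgroup.coe_mul, Subgroup.coe_inv, hy₁coe]
      rw [h4, map_mul, Module.End.mul_apply, h2] at h3
      exact h3)
    (R.subgroupOf Γ₁)
    (by
      intro g
      rw [Subgroup.mem_subgroupOf, hR, hN₁mem]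
      constructor
      · rintro ⟨h1, h2⟩
        refine ⟨h1, ?_⟩
        intro h hh
        rw [hone, hcomm_coe]
        exact h2 _ ((hN₁mem h).1 hh)
      · rintro ⟨h1, h2⟩
        refine ⟨h1, ?_⟩
        intro h hh
        have := h2 ⟨h, hQΓ hh⟩ ((hN₁mem _).2 hh)
        rw [hone, hcomm_coe] at this
        exact this)
  rw [hN₁, Subgroup.relIndex_subgroupOf hQΓ] at htop
  exact htop

end Cfsg.Agent.Helper9.GrossBr
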