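import Cfsg.Agent.Helper9.GrossBr.Top

/-!
Bridge for S3793 (Shult–Gross): the induction on `n` and the chain form of the conclusion, modulo
the linear theorem.
-/

set_option autoImplicit false
set_option linter.style.haveILetI false
set_option linter.unusedSectionVars false

namespace Cfsg.Agent.Helper9.GrossBr

universe u

/-- powers of the automorphism induced on a quotient. -/
theorem congr_pow_mk {G : Type u} [Group G] (K : Subgroup G) [K.Normal] (σ : MulAut G)
    (hK : K.map (σ : G →* G) = K) (m : ℕ) (g : G) :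
    ((QuotientGroup.congr K K σ hK) ^ m) (QuotientGroup.mk g) =
      QuotientGroup.mk ((σ ^ m) g) := by
  induction m generalizing g with
  | zero => simp
  | succ m ih =>
    rw [pow_succ, pow_succ, MulAut.mul_apply, MulAut.mul_apply, QuotientGroup.congr_mk, ih]

/-- pulling a chain back from a quotient by a nilpotent normal subgroup. -/
theorem chain_of_quotient {G : Type u} [Group G] (K : Subgroup G) [hKn : K.Normal]
    (hnil : ∃ c : ℕ, K.lowerCentralSeries c = ⊥) (n : ℕ)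
    (F' : Fin (n + 1) → Subgroup (G ⧸ K)) (h0 : F' 0 = ⊥) (hlast : F' (Fin.last n) = ⊤)
    (hmono : Monotone F') (hnorm : ∀ i, (F' i).Normal)
    (hstep : ∀ i : Fin n, ∃ k : ℕ, (F' i.succ).lowerCentralSeries k ≤ F' i.castSucc) :
    ∃ F : Fin (n + 1 + 1) → Subgroup G, F 0 = ⊥ ∧ F (Fin.last (n + 1)) = ⊤ ∧ Monotone F ∧
      (∀ i, (F i).Normal) ∧
      ∀ i : Fin (n + 1), ∃ k : ℕ, (F i.succ).lowerCentralSeries k ≤ F i.castSucc := by
  obtain ⟨π, hπ⟩ : ∃ π : G →* G ⧸ K, π = QuotientGroup.mk' K := ⟨_, rfl⟩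
  have hπs : Function.Surjective π := by rw [hπ]; exact QuotientGroup.mk'_surjective K
  obtain ⟨F, hF⟩ : ∃ F : Fin (n + 1 + 1) → Subgroup G,
      F = Fin.cons ⊥ (fun i : Fin (n + 1) => (F' i).comap π) := ⟨_, rfl⟩
  have hF0 : F 0 = ⊥ := by rw [hF, Fin.cons_zero]
  have hFs : ∀ i : Fin (n + 1), F i.succ = (F' i).comap π := by
    intro i; rw [hF, Fin.cons_succ]
  have hF1 : F (Fin.succ 0) = K := by
    rw [hFs, h0]
    have : (⊥ : Subgroup (G ⧸ K)).comap π = π.ker := rfl
    rw [this, hπ, QuotientGroup.ker_mk']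
  refine ⟨F, hF0, ?_, ?_, ?_, ?_⟩
  · rw [← Fin.succ_last, hFs, hlast, Subgroup.comap_top]
  · rw [Fin.monotone_iff_le_succ]
    intro i
    refine Fin.cases ?_ (fun j => ?_) i
    · rw [Fin.castSucc_zero, hF0]; exact bot_le
    · rw [← Fin.succ_castSucc, hFs, hFs]
      exact Subgroup.comap_mono (hmono (Fin.castSucc_le_succ j))
  · intro i
    refine Fin.cases ?_ (fun j => ?_) i
    · rw [hF0]; infer_instance
    · rw [hFs]; exact (hnorm j).comap π
  · intro i
    refine Fin.cases ?_ (fun j => ?_) i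
    · obtain ⟨c, hc⟩ := hnil
      refine ⟨c, ?_⟩
      rw [hF1, hc]; exact bot_le
    · obtain ⟨k, hk⟩ := hstep j
      refine ⟨k, ?_⟩
      rw [← Fin.succ_castSucc, hFs, hFs]
      intro x hx
      rw [Subgroup.mem_comap]
      apply hk
      have h1 : π x ∈ (((F' j.succ).comap π).lowerCentralSeries k).map π :=
        ⟨x, hx, rfl⟩
      rwa [Subgroup.map_lowerCentralSeries, Subgroup.map_comap_eq_self_of_surjective hπs] at h1

/-- **The Shult–Gross theorem in chain form**, modulo the linear theorem. -/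
theorem gross_chain {p : ℕ} (hp : p.Prime) (hLin : ∀ n : ℕ, 1 ≤ n → LinHypC.{u} p n) :
    ∀ (n : ℕ) (G : Type u) [Group G] [Finite G], Group.IsSolvable G → ∀ σ : MulAut G,
      σ ^ (p ^ n) = 1 → (∀ g : G, σ g = g → g = 1) →
      ∃ F : Fin (n + 1) → Subgroup G, F 0 = ⊥ ∧ F (Fin.last n) = ⊤ ∧ Monotone F ∧
        (∀ i, (F i).Normal) ∧
        ∀ i : Fin n, ∃ k : ℕ, (F i.succ).lowerCentralSeries k ≤ F i.castSucc := by
  intro n
  induction n with
  | zero =>
    intro G _ _ hG σ hσ hfpf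
    rw [pow_zero, pow_one] at hσ
    have hsub : ∀ g : G, g = 1 := fun g => hfpf g (by rw [hσ, MulAut.one_apply])
    have hbt : (⊥ : Subgroup G) = ⊤ := by
      rw [eq_top_iff]
      intro g _
      rw [hsub g]; exact Subgroup.one_mem _
    refine ⟨fun _ => ⊥, rfl, hbt, fun _ _ _ => le_rfl, fun _ => inferInstance, ?_⟩
    intro i
    exact i.elim0
  | succ n ih =>
    intro G _ _ hG σ hσ hfpf
    obtain ⟨K, hKn, hKσ, hnil, hτ, hfree⟩ :=
      exists_nilpotent_comm (hLin (n + 1) (Nat.succ_le_succ (Nat.zero_le n))) hp hG σ hσ hfpf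
    rw [Nat.add_sub_cancel] at hτ
    haveI := hKn
    have hK : K.map (σ : G →* G) = K := by
      have hle : K.map (σ : G →* G) ≤ K := by
        rintro _ ⟨x, hx, rfl⟩
        exact hKσ x hx
      apply Subgroup.eq_of_le_of_card_ge hle
      rw [Subgroup.card_map_of_injective (f := (σ : G →* G)) σ.injective]
    obtain ⟨σ', hσ'⟩ : ∃ σ' : MulAut (G ⧸ K), σ' = QuotientGroup.congr K K σ hK := ⟨_, rfl⟩
    have hσ'pow : σ' ^ (p ^ n) = 1 := by
      ext x
      obtain ⟨g, rfl⟩ := QuotientGroup.mk_surjective x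
      rw [hσ', congr_pow_mk, MulAut.one_apply, QuotientGroup.eq, ← K.inv_mem_iff]
      have : (((σ ^ p ^ n) g)⁻¹ * g)⁻¹ = g⁻¹ * ((σ ^ p ^ n) g * g⁻¹) * (g⁻¹)⁻¹ := by group
      rw [this]
      exact hKn.conj_mem _ (hτ g) _
    have hfpf' : ∀ x : G ⧸ K, σ' x = x → x = 1 := by
      intro x hx
      obtain ⟨g, rfl⟩ := QuotientGroup.mk_surjective x
      rw [hσ', QuotientGroup.congr_mk, QuotientGroup.eq] at hx
      rw [QuotientGroup.eq_one_iff]
      apply hfree
      have h1 : σ g * g⁻¹ = σ g * (((σ g)⁻¹ * g)⁻¹) * (σ g)⁻¹ := by group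
      rw [h1]
      exact hKn.conj_mem _ (K.inv_mem hx) _
    haveI := hG
    have hGq : Group.IsSolvable (G ⧸ K) :=
      Group.isSolvable_of_surjective (QuotientGroup.mk'_surjective K)
    obtain ⟨F', h0, hlast, hmono, hnorm, hstep⟩ := ih (G ⧸ K) hGq σ' hσ'pow hfpf'
    exact chain_of_quotient K hnil n F' h0 hlast hmono hnorm hstep

end Cfsg.Agent.Helper9.GrossBr
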