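import Cfsg.Agent.Helper9.GrossBr.Step

/-!
Bridge for S3793 (Shult–Gross): the induction on the order of `G`, modulo the linear theorem.
-/

set_option autoImplicit false
set_option linter.style.haveILetI false
set_option linter.unusedSectionVars false

namespace Cfsg.Agent.Helper9.GrossBr

open Cfsg.Agent.Lead.S3F Cfsg.Agent.Lead.Fpq Cfsg.Agent.Helper9.FpqBr

universe u

open scoped commutatorElement

/-- the induction on the order of `G`. -/
theorem nilComm_of_cfgS_aux {p n : ℕ} (hLin : LinHypC.{u} p n) : ∀ m : ℕ, ∀ (Γ : Type u)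
    [Group Γ] [Finite Γ] (G : Subgroup Γ) (s : Γ), Nat.card G = m → CfgS p n G s →
    NilComm G (s ^ (p ^ (n - 1))) := by
  intro m
  induction m using Nat.strong_induction_on with
  | _ m ih =>
    intro Γ _ _ G s hm hcfg
    by_cases hG : G = ⊥
    · refine ⟨0, ?_⟩
      rw [Subgroup.lowerCentralSeries_zero, hG, Subgroup.commutator_bot_left]
    classical
    obtain ⟨𝒮, h𝒮⟩ : ∃ 𝒮 : Set (Subgroup Γ), 𝒮 = {U | U ≤ G ∧ U ≠ ⊥ ∧
        (∀ g ∈ G, ∀ x ∈ U, g * x * g⁻¹ ∈ U) ∧ (∀ x ∈ U, s * x * s⁻¹ ∈ U)} := ⟨_, rfl⟩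
    have hG𝒮 : G ∈ 𝒮 := by
      rw [h𝒮]
      exact ⟨le_rfl, hG, fun g hg x hx => G.mul_mem (G.mul_mem hg hx) (G.inv_mem hg),
        fun x hx => conj_mem_of_mem_normalizer' hcfg.norm hx⟩
    obtain ⟨V, hV𝒮, hVmin⟩ := WellFounded.has_min
      (measure (fun U : Subgroup Γ => Nat.card U)).wf 𝒮 ⟨G, hG𝒮⟩
    have hVmin' : ∀ U : Subgroup Γ, U ≤ V → U ≠ ⊥ → (∀ g ∈ G, ∀ x ∈ U, g * x * g⁻¹ ∈ U) →
        (∀ x ∈ U, s * x * s⁻¹ ∈ U) → V ≤ U := by
      intro U hUV hUne h1 h2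
      have hU𝒮 : U ∈ 𝒮 := by
        rw [h𝒮] at hV𝒮 ⊢
        exact ⟨hUV.trans hV𝒮.1, hUne, h1, h2⟩
      have h4 : ¬ Nat.card U < Nat.card V := hVmin U hU𝒮
      have heq := Subgroup.eq_of_le_of_card_ge hUV (not_lt.1 h4)
      rw [heq]
    rw [h𝒮] at hV𝒮
    obtain ⟨hVG, hVne, hVGn, hVA⟩ := hV𝒮
    obtain ⟨N, hN⟩ : ∃ N : Subgroup Γ, N = Subgroup.normalizer (V : Set Γ) := ⟨_, rfl⟩
    have hGN : G ≤ N := fun g hg => by
      rw [hN]; exact mem_normalizer_of_conj_mem V g (hVGn g hg)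
    have hsN : s ∈ N := by
      rw [hN]; exact mem_normalizer_of_conj_mem V s hVA
    have hVN : V ≤ N := hVG.trans hGN
    have hcfg₁ := hcfg.comap_subtype N hGN hsN
    haveI : (V.subgroupOf N).Normal := by
      rw [hN]; exact Subgroup.normal_in_normalizer
    have key : NilComm (G.subgroupOf N) ((⟨s, hsN⟩ : N) ^ (p ^ (n - 1))) := by
      apply step hLin (G.subgroupOf N) (V.subgroupOf N) (⟨s, hsN⟩ : N) hcfg₁
      · intro x hx
        rw [Subgroup.mem_subgroupOf] at hx ⊢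
        exact hVG hx
      · intro hbot
        obtain ⟨v, hv1⟩ := (Subgroup.ne_bot_iff_exists_ne_one).1 hVne
        have h1 : (⟨v, hVN v.2⟩ : N) ∈ V.subgroupOf N := by
          rw [Subgroup.mem_subgroupOf]; exact v.2
        rw [hbot, Subgroup.mem_bot] at h1
        apply hv1
        apply Subtype.ext
        have h2 : ((⟨v, hVN v.2⟩ : N) : Γ) = ((1 : N) : Γ) := congrArg Subtype.val h1
        exact h2
      · intro U₁ hU₁V hU₁ne h1 h2
        have h4 := hVmin' (U₁.map N.subtype) ?_ ?_ ?_ ?_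
        · intro x hx
          rw [Subgroup.mem_subgroupOf] at hx
          obtain ⟨u, hu, hux⟩ := h4 hx
          have : u = x := Subtype.ext hux
          rwa [this] at hu
        · rintro _ ⟨u, hu, rfl⟩
          exact Subgroup.mem_subgroupOf.1 (hU₁V hu)
        · rw [Ne, Subgroup.map_eq_bot_iff_of_injective _ N.subtype_injective]
          exact hU₁ne
        · rintro g hg _ ⟨u, hu, rfl⟩
          exact ⟨⟨g, hGN hg⟩ * u * ⟨g, hGN hg⟩⁻¹,
            h1 ⟨g, hGN hg⟩ (Subgroup.mem_subgroupOf.2 hg) u hu, rfl⟩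
        · rintro _ ⟨u, hu, rfl⟩
          exact ⟨⟨s, hsN⟩ * u * ⟨s, hsN⟩⁻¹, h2 u hu, rfl⟩
      · intro Γ' _ _ G' s' hlt hcfg'
        have hcard : Nat.card (G.subgroupOf N) = m := by
          rw [Nat.card_congr (Subgroup.subgroupOfEquivOfLe hGN).toEquiv, hm]
        exact ih (Nat.card G') (by rw [← hcard]; exact hlt) Γ' G' s' rfl hcfg'
    obtain ⟨c, hc⟩ := key
    refine ⟨c, ?_⟩
    have h1 := congrArg (Subgroup.map N.subtype) hc
    rw [Subgroup.map_bot, Subgroup.map_lowerCentralSeries, map_comm_zpowers,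
      Subgroup.map_subgroupOf_eq_of_le hGN, map_pow] at h1
    exact h1

/-- **The group-level theorem**, modulo the linear theorem: `[G, s ^ (p ^ (n - 1))]` is
nilpotent. -/
theorem nilComm_of_cfgS {p n : ℕ} (hLin : LinHypC.{u} p n) {Γ : Type u} [Group Γ] [Finite Γ]
    (G : Subgroup Γ) (s : Γ) (hcfg : CfgS p n G s) : NilComm G (s ^ (p ^ (n - 1))) :=
  nilComm_of_cfgS_aux hLin _ Γ G s rfl hcfg

variable {Γ : Type*} [Group Γ]

/-- `[G, T]` is normalized by `G` when `T` normalizes `G`. -/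
theorem le_normalizer_commutator [Finite Γ] (G T : Subgroup Γ) :
    G ≤ Subgroup.normalizer ((⁅G, T⁆ : Subgroup Γ) : Set Γ) := by
  intro h hh
  have key : ∀ h ∈ G, ∀ y ∈ (⁅G, T⁆ : Subgroup Γ), h * y * h⁻¹ ∈ (⁅G, T⁆ : Subgroup Γ) := by
    intro h hh y hy
    have hle : (⁅G, T⁆ : Subgroup Γ) ≤
        (⁅G, T⁆ : Subgroup Γ).comap (MulAut.conj h).toMonoidHom := by
      rw [Subgroup.commutator_def, Subgroup.closure_le]
      rintro _ ⟨g, hg, x, hx, rfl⟩
      rw [SetLike.mem_coe, Subgroup.mem_comap]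
      change h * ⁅g, x⁆ * h⁻¹ ∈ _
      have e : h * ⁅g, x⁆ * h⁻¹ = ⁅h * g, x⁆ * ⁅h, x⁆⁻¹ := by
        simp only [commutatorElement_def]; group
      rw [e]
      exact Subgroup.mul_mem _ (Subgroup.commutator_mem_commutator (G.mul_mem hh hg) hx)
        (Subgroup.inv_mem _ (Subgroup.commutator_mem_commutator hh hx))
    exact hle hy
  apply mem_normalizer_of_conj_mem
  exact key h hh

/-- an element normalizing `G` and `T` normalizes `[G, T]`. -/
theorem mem_normalizer_commutator [Finite Γ] (G T : Subgroup Γ) (a : Γ)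
    (haG : a ∈ Subgroup.normalizer (G : Set Γ)) (haT : a ∈ Subgroup.normalizer (T : Set Γ)) :
    a ∈ Subgroup.normalizer ((⁅G, T⁆ : Subgroup Γ) : Set Γ) := by
  apply mem_normalizer_of_conj_mem
  intro y hy
  have hle : (⁅G, T⁆ : Subgroup Γ) ≤
      (⁅G, T⁆ : Subgroup Γ).comap (MulAut.conj a).toMonoidHom := by
    rw [Subgroup.commutator_def, Subgroup.closure_le]
    rintro _ ⟨g, hg, x, hx, rfl⟩
    rw [SetLike.mem_coe, Subgroup.mem_comap]
    change a * ⁅g, x⁆ * a⁻¹ ∈ _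
    have e : a * ⁅g, x⁆ * a⁻¹ = ⁅a * g * a⁻¹, a * x * a⁻¹⁆ := by
      simp only [commutatorElement_def]; group
    rw [e]
    exact Subgroup.commutator_mem_commutator (conj_mem_of_mem_normalizer' haG hg)
      (conj_mem_of_mem_normalizer' haT hx)
  exact hle hy

end Cfsg.Agent.Helper9.GrossBr
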