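import Cfsg.Agent.Helper9.GrossBr.Main

/-!
Bridge for S3793 (Shult–Gross): from the ambient formulation to an abstract automorphism `σ` with
`σ ^ (p ^ n) = 1`: the subgroup `[G, σ ^ (p ^ (n - 1))]` is normal, `σ`-invariant and nilpotent, and
`σ` acts without fixed points on the quotient.
-/

set_option autoImplicit false
set_option linter.style.haveILetI false
set_option linter.unusedSectionVars false

namespace Cfsg.Agent.Helper9.GrossBr

open Cfsg.Agent.Lead.S3F Cfsg.Agent.Lead.Fpq Cfsg.Agent.Helper9.FpqBr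

universe u

open scoped commutatorElement

/-- an automorphism of `p`-power order without non-trivial fixed points acts coprimely. -/
theorem coprime_of_fpf_pow {G : Type u} [Group G] [Finite G] {p n : ℕ} (hp : p.Prime)
    (σ : MulAut G) (hσ : σ ^ (p ^ n) = 1) (hfpf : ∀ g : G, σ g = g → g = 1) :
    (Nat.card G).Coprime p := by
  haveI : Fact p.Prime := ⟨hp⟩
  haveI : Finite (MulAut G) := Finite.of_injective (fun e : MulAut G => (e : G → G))
    (fun a b hab => MulEquiv.ext (congrFun hab))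
  obtain ⟨B, hBdef⟩ : ∃ B : Subgroup (MulAut G), B = Subgroup.zpowers σ := ⟨_, rfl⟩
  have hB : IsPGroup p B := by
    rintro ⟨b, hb⟩
    refine ⟨n, ?_⟩
    apply Subtype.ext
    rw [Subgroup.coe_pow, Subgroup.coe_one]
    rw [hBdef] at hb
    obtain ⟨i, rfl⟩ := Subgroup.mem_zpowers_iff.1 hb
    rw [← zpow_natCast, ← zpow_mul, mul_comm, zpow_mul, zpow_natCast, hσ, one_zpow]
  have h1 := hB.card_modEq_card_fixedPoints G
  have h2 : Nat.card (MulAction.fixedPoints ↥B G) = 1 := by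
    rw [Nat.card_eq_one_iff_unique]
    refine ⟨⟨?_⟩, ⟨⟨1, fun b => map_one (b : MulAut G)⟩⟩⟩
    rintro ⟨x, hx⟩ ⟨y, hy⟩
    apply Subtype.ext
    have hσB : σ ∈ B := by rw [hBdef]; exact Subgroup.mem_zpowers σ
    have hx1 : x = 1 := hfpf x (hx ⟨σ, hσB⟩)
    have hy1 : y = 1 := hfpf y (hy ⟨σ, hσB⟩)
    exact hx1.trans hy1.symm
  rw [h2] at h1
  rw [Nat.coprime_comm, Nat.Prime.coprime_iff_not_dvd hp]
  intro hdvd
  have h3 : Nat.card G ≡ 0 [MOD p] := (Nat.modEq_zero_iff_dvd).2 hdvd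
  have h4 : 1 ≡ 0 [MOD p] := h1.symm.trans h3
  have h5 := (Nat.modEq_zero_iff_dvd).1 h4
  exact hp.one_lt.ne' (Nat.dvd_one.1 h5)

set_option maxHeartbeats 1000000 in
/-- **The abstract group-level theorem**, modulo the linear theorem. -/
theorem exists_nilpotent_comm {p n : ℕ} (hLin : LinHypC.{u} p n) (hp : p.Prime)
    {G : Type u} [Group G] [Finite G] (hG : Group.IsSolvable G) (σ : MulAut G)
    (hσ : σ ^ (p ^ n) = 1) (hfpf : ∀ g : G, σ g = g → g = 1) :
    ∃ K : Subgroup G, K.Normal ∧ (∀ x ∈ K, σ x ∈ K) ∧ (∃ c : ℕ, K.lowerCentralSeries c = ⊥) ∧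
      (∀ g : G, (σ ^ (p ^ (n - 1))) g * g⁻¹ ∈ K) ∧ (∀ g : G, σ g * g⁻¹ ∈ K → g ∈ K) := by
  classical
  haveI : Finite (MulAut G) := Finite.of_injective (fun e : MulAut G => (e : G → G))
    (fun a b hab => MulEquiv.ext (congrFun hab))
  obtain ⟨φ, hφ⟩ : ∃ φ : ↥(Subgroup.zpowers σ) →* MulAut G, φ = (Subgroup.zpowers σ).subtype :=
    ⟨_, rfl⟩
  obtain ⟨a₀, ha₀⟩ : ∃ a₀ : ↥(Subgroup.zpowers σ), a₀ = ⟨σ, Subgroup.mem_zpowers σ⟩ := ⟨_, rfl⟩
  have hφa₀ : ∀ m : ℕ, φ (a₀ ^ m) = σ ^ m := by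
    intro m; rw [map_pow, hφ, ha₀]; rfl
  have ha₀gen : ∀ a : ↥(Subgroup.zpowers σ), ∃ i : ℤ, a = a₀ ^ i := by
    rintro ⟨a, ha⟩
    obtain ⟨i, rfl⟩ := Subgroup.mem_zpowers_iff.1 ha
    refine ⟨i, ?_⟩
    apply Subtype.ext
    rw [ha₀, Subgroup.coe_zpow]
  haveI hfinX : Finite (G ⋊[φ] ↥(Subgroup.zpowers σ)) :=
    Finite.of_equiv _ (SemidirectProduct.equivProd (φ := φ)).symm
  obtain ⟨G₀, hG₀⟩ : ∃ G₀ : Subgroup (G ⋊[φ] ↥(Subgroup.zpowers σ)),
      G₀ = (SemidirectProduct.inl : G →* G ⋊[φ] ↥(Subgroup.zpowers σ)).range := ⟨_, rfl⟩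
  obtain ⟨s, hs⟩ : ∃ s : G ⋊[φ] ↥(Subgroup.zpowers σ), s = SemidirectProduct.inr a₀ := ⟨_, rfl⟩
  have eG : G ≃* G₀ := by
    rw [hG₀]; exact MonoidHom.ofInjective SemidirectProduct.inl_injective
  haveI hG₀n : G₀.Normal := by
    rw [hG₀, SemidirectProduct.range_inl_eq_ker_rightHom]
    exact MonoidHom.normal_ker _
  have hinl : ∀ g : G, SemidirectProduct.inl g ∈ G₀ := fun g => by rw [hG₀]; exact ⟨g, rfl⟩
  have hconj : ∀ (m : ℕ) (g : G), s ^ m * SemidirectProduct.inl g * (s ^ m)⁻¹ =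
      SemidirectProduct.inl ((σ ^ m) g) := by
    intro m g
    rw [hs, ← map_pow, ← map_inv, ← SemidirectProduct.inl_aut, hφa₀]
  have hconj1 : ∀ g : G, s * SemidirectProduct.inl g * s⁻¹ = SemidirectProduct.inl (σ g) := by
    intro g
    have := hconj 1 g
    rwa [pow_one, pow_one] at this
  have hcfg : CfgS p n G₀ s := by
    refine ⟨?_, ?_, ?_, ?_, ?_⟩
    · rw [hs, ← map_pow]
      have : a₀ ^ (p ^ n) = 1 := by
        apply Subtype.ext
        rw [ha₀, Subgroup.coe_pow, Subgroup.coe_one]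
        exact hσ
      rw [this, map_one]
    · rw [Subgroup.normalizer_eq_top]; exact Subgroup.mem_top _
    · exact Group.isSolvable_of_surjective (f := eG.toMonoidHom) eG.surjective
    · rw [← Nat.card_congr eG.toEquiv]; exact coprime_of_fpf_pow hp σ hσ hfpf
    · intro x hx h1
      rw [hG₀] at hx
      obtain ⟨g, rfl⟩ := hx
      rw [hconj1] at h1
      have hg : g = 1 := hfpf g (SemidirectProduct.inl_injective h1)
      rw [hg, map_one]
  obtain ⟨t, ht⟩ : ∃ t, t = s ^ (p ^ (n - 1)) := ⟨_, rfl⟩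
  obtain ⟨c, hc⟩ := nilComm_of_cfgS hLin G₀ s hcfg
  rw [← ht] at hc
  obtain ⟨K', hK'⟩ : ∃ K' : Subgroup (G ⋊[φ] ↥(Subgroup.zpowers σ)),
      K' = ⁅G₀, Subgroup.zpowers t⁆ := ⟨_, rfl⟩
  rw [← hK'] at hc
  have hK'G : K' ≤ G₀ := by rw [hK']; exact Subgroup.commutator_le_left _ _
  have hsT : s ∈ Subgroup.normalizer ((Subgroup.zpowers t : Subgroup _) : Set _) := by
    apply mem_normalizer_of_conj_mem
    intro y hy
    have hcomm : Commute s t := by rw [ht]; exact (Commute.refl s).pow_right _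
    obtain ⟨i, rfl⟩ := Subgroup.mem_zpowers_iff.1 hy
    have h2 : Commute s (t ^ i) := hcomm.zpow_right i
    have : s * t ^ i * s⁻¹ = t ^ i := by
      rw [h2.eq]; group
    rw [this]
    exact Subgroup.zpow_mem_zpowers t i
  have hsK' : s ∈ Subgroup.normalizer (K' : Set _) := by
    rw [hK']
    exact mem_normalizer_commutator G₀ _ s
      (by rw [Subgroup.normalizer_eq_top]; exact Subgroup.mem_top _) hsT
  have hGK' : G₀ ≤ Subgroup.normalizer (K' : Set _) := by
    rw [hK']; exact le_normalizer_commutator G₀ _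
  haveI hK'n : K'.Normal := by
    rw [← Subgroup.normalizer_eq_top_iff, eq_top_iff]
    intro x _
    have hx : x = SemidirectProduct.inl x.left * SemidirectProduct.inr x.right := by
      simp
    rw [hx]
    apply Subgroup.mul_mem _ (hGK' (hinl _))
    obtain ⟨i, hi⟩ := ha₀gen x.right
    rw [hi, map_zpow, ← hs]
    exact Subgroup.zpow_mem _ hsK' i
  obtain ⟨K, hK⟩ : ∃ K : Subgroup G, K = K'.comap SemidirectProduct.inl := ⟨_, rfl⟩
  have hKmem : ∀ x : G, x ∈ K ↔ SemidirectProduct.inl x ∈ K' := by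
    intro x; rw [hK, Subgroup.mem_comap]
  have hKmap : K.map SemidirectProduct.inl = K' := by
    rw [hK, Subgroup.map_comap_eq, inf_eq_right, ← hG₀]
    exact hK'G
  refine ⟨K, ?_, ?_, ?_, ?_, ?_⟩
  · rw [hK]; exact hK'n.comap _
  · intro x hx
    rw [hKmem] at hx ⊢
    rw [← hconj1]
    exact hK'n.conj_mem _ hx s
  · refine ⟨c, ?_⟩
    have h1 : (K.lowerCentralSeries c).map
        (SemidirectProduct.inl : G →* G ⋊[φ] ↥(Subgroup.zpowers σ)) = ⊥ := by
      rw [Subgroup.map_lowerCentralSeries, hKmap]; exact hc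
    exact (Subgroup.map_eq_bot_iff_of_injective _ SemidirectProduct.inl_injective).1 h1
  · intro g
    rw [hKmem, map_mul, map_inv, ← hconj, ← ht, hK', Subgroup.commutator_comm]
    have : t * SemidirectProduct.inl g * t⁻¹ * (SemidirectProduct.inl g)⁻¹ =
        ⁅t, SemidirectProduct.inl g⁆ := by rw [commutatorElement_def]
    rw [this]
    exact Subgroup.commutator_mem_commutator (Subgroup.mem_zpowers t) (hinl g)
  · intro g hg
    rw [hKmem] at hg ⊢
    have h1 := hcfg.fpf_map (QuotientGroup.mk' K') (SemidirectProduct.inl g) (hinl g) (by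
      rw [← map_inv, ← map_mul, ← map_mul, hconj1]
      rw [QuotientGroup.mk'_apply, QuotientGroup.mk'_apply, QuotientGroup.eq]
      have : (SemidirectProduct.inl (σ g))⁻¹ * SemidirectProduct.inl g =
          (SemidirectProduct.inl g)⁻¹ *
            (SemidirectProduct.inl (σ g * g⁻¹) : G ⋊[φ] ↥(Subgroup.zpowers σ))⁻¹ *
            ((SemidirectProduct.inl g)⁻¹)⁻¹ := by
        rw [map_mul, map_inv]; group
      rw [this]
      exact hK'n.conj_mem _ (K'.inv_mem hg) _)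
    rwa [QuotientGroup.mk'_apply, QuotientGroup.eq_one_iff] at h1

end Cfsg.Agent.Helper9.GrossBr
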